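import Cfsg.Agent.Lib.X32.Cj
import Cfsg.Agent.Lib.Exc.Chz
import Cfsg.Agent.Lib.Exc.D8
import Cfsg.Agent.Lib.JR.A5F
import Cfsg.Agent.Lib.Invol.RankOne

/-!
# General lemmas: transfer, Klein Sylow subgroups, generation
-/

set_option synthInstance.maxSize 100000
set_option synthInstance.maxHeartbeats 200000
set_option maxRecDepth 100000

namespace Cfsg.Lib.X32

open Subgroup Cfsg.Lib.Transfer Cfsg.Lib.Invol Cfsg.Lib.JR

universe u

variable {G : Type u} [Group G] [Finite G]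

local instance : Fact (Nat.Prime 2) := ⟨Nat.prime_two⟩

theorem fpf {O : Subgroup G} {v s : G} (vv : v * v = 1) (ss : s * s = 1) (hv : v ∈ normalizer (O : Set G))
    (hs : s ∈ normalizer (O : Set G)) (h1 : ∀ d ∈ O, Commute d v → d = 1) (h2 : ∀ d ∈ O, Commute d s → d = 1)
    (h3 : ∀ d ∈ O, Commute d (s * v) → d = 1) : O = ⊥ := by
  refine eq_bot_iff.2 fun d hd => mem_bot.2 (h3 d hd (Commute.symm (mul_inv_eq_iff_eq_mul.1 ?_)))
  have a := inverts_of_fpf vv hv h1 d hd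
  have b := inverts_of_fpf ss hs h2 _ (inv_mem hd)
  rw [← a] at b
  rw [show s * v * d * (s * v)⁻¹ = s * (v * d * v⁻¹) * s⁻¹ by group, b, a, inv_inv]

theorem burn {N V : Subgroup G} [N.Normal] (hV : SylowIn 2 V N) (h : N ⊓ normalizer (V : Set G) ≤ centralizer (V : Set G))
    (hO : ∀ O : Subgroup G, O.Normal → O ≤ N → V ⊓ O = ⊥ → O = ⊥) : N = V := by
  have := hV.resOf_sup
  rwa [hO _ (resOf_normal N) (resOf_le N) ((hV.pnil_of_normalizer_le_centralizer h).disjoint hV.2), bot_sup_eq,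
    eq_comm] at this

theorem exists_cent {Q : Subgroup G} (hQ : IsPGroup 2 Q) {v : G} (hv : v ∈ Q) (h1 : v ≠ 1) :
    ∃ c ∈ Q, c ≠ 1 ∧ ∀ q ∈ Q, q * c = c * q := by
  have : Nontrivial Q := ⟨⟨⟨v, hv⟩, 1, fun e => h1 (congrArg Subtype.val e)⟩⟩
  have := hQ.center_nontrivial
  obtain ⟨c, hc⟩ := exists_ne (1 : center Q)
  exact ⟨c, c.1.2, fun e => hc (Subtype.ext (Subtype.ext e)), fun q hq =>
    congrArg Subtype.val (mem_center_iff.1 c.2 ⟨q, hq⟩)⟩

theorem klein_a5 {v s y : G} (vv : v * v = 1) (v1 : v ≠ 1) (sv : s * v = v * s) (yv : y * v * y⁻¹ = s)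
    (ys : y * s * y⁻¹ = s * v) (hc : ∀ g, g * v = v * g → g = 1 ∨ g = v ∨ g = s ∨ g = s * v) :
    (∀ g, g * v * g⁻¹ = v ∨ g * v * g⁻¹ = s ∨ g * v * g⁻¹ = s * v) ∨ Nonempty (G ≃* alternatingGroup (Fin 5)) := by
  have ss : s * s = 1 := by rw [← yv, conj_mul, vv]; group
  have s1 : s ≠ 1 := fun e => v1 (by rwa [e, conj_eq_one_iff] at yv)
  have y3 : y * (s * v) * y⁻¹ = v := by rw [← conj_mul, ys, yv, mul_assoc, ← sv, ← mul_assoc, ss, one_mul]
  have vs : v ≠ s := fun e => s1 (by rw [← e, vv, conj_eq_one_iff] at ys; exact e ▸ ys)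
  set V := centralizer ({v} : Set G) with hV
  have mV : ∀ g, g ∈ V ↔ g * v = v * g := fun g => by rw [hV, mem_centralizer_singleton_iff]
  have vV : v ∈ V := (mV v).2 rfl
  have sV : s ∈ V := (mV s).2 sv
  have hK : IsKleinFour V := by
    rw [show V = closure {v, s} from le_antisymm (fun g hg => by
      have a : v ∈ closure {v, s} := subset_closure (by simp)
      have b : s ∈ closure {v, s} := subset_closure (by simp)
      rcases hc g ((mV g).1 hg) with rfl | rfl | rfl | rfl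
      exacts [one_mem _, a, b, mul_mem b a]) ((closure_le _).2 (by rintro _ (rfl | rfl); exacts [vV, sV]))]
    exact isKleinFour_closure (orderOf_eq_prime (by rwa [pow_two]) v1) (orderOf_eq_prime (by rwa [pow_two]) s1) vs sv.symm
  have yV : ∀ g ∈ V, y * g * y⁻¹ ∈ V := fun g hg => by
    rcases hc g ((mV g).1 hg) with rfl | rfl | rfl | rfl
    · simp
    · exact yv ▸ sV
    · exact ys ▸ mul_mem sV vV
    · exact y3.symm ▸ vV
  have cV : ∀ c ∈ V, c ≠ 1 → ∀ g, g * c = c * g → g ∈ V := fun c hc' c1 g e => by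
    have k : ∀ {c : G}, (∀ g, g * c = c * g → g ∈ V) → ∀ g, g * (y * c * y⁻¹) = y * c * y⁻¹ * g → g ∈ V := fun {c} h g e => by
      have := yV _ (h (y⁻¹ * g * y) (by
        calc _ = y⁻¹ * (g * (y * c * y⁻¹)) * y := by group
          _ = _ := by rw [e]; group))
      simpa [mul_assoc] using this
    have a := k fun g => (mV g).2
    rw [yv] at a
    have b := k a
    rw [ys] at b
    rcases hc c ((mV c).1 hc') with rfl | rfl | rfl | rfl
    exacts [absurd rfl c1, (mV g).2 e, a g e, b g e]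
  have hS : SylowIn 2 V ⊤ := sylowIn_of_maximal le_top (klein_isPGroup hK) fun Q hQ h _ q hq => by
    obtain ⟨c, h1, h2, h3⟩ := exists_cent hQ (h vV) v1
    exact cV c ((mV c).2 (h3 v (h vV)).symm) h2 q (h3 q hq)
  have nV : ∀ g, g * v * g⁻¹ ∈ V → g * v * g⁻¹ = v ∨ g * v * g⁻¹ = s ∨ g * v * g⁻¹ = s * v := fun g h =>
    (hc _ ((mV _).1 h)).resolve_left fun e => v1 (conj_eq_one_iff.1 e)
  have nV2 : ∀ g ∈ normalizer (V : Set G), g ∈ V ∨ y⁻¹ * g ∈ V ∨ y * g ∈ V := fun g hg => by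
    rcases nV g (conj_mem_of_mem_normalizer hg vV) with e | e | e
    · exact Or.inl ((mV g).2 (mul_inv_eq_iff_eq_mul.1 e))
    · refine Or.inr (Or.inl ((mV _).2 (mul_inv_eq_iff_eq_mul.1 ?_)))
      rw [show y⁻¹ * g * v * (y⁻¹ * g)⁻¹ = y⁻¹ * (g * v * g⁻¹) * y by group, e, ← yv]; group
    · refine Or.inr (Or.inr ((mV _).2 (mul_inv_eq_iff_eq_mul.1 ?_)))
      rw [show y * g * v * (y * g)⁻¹ = y * (g * v * g⁻¹) * y⁻¹ by group, e, y3]
  have hO : ∀ O : Subgroup G, O.Normal → V ⊓ O = ⊥ → O = ⊥ := fun O hn h => by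
    have k : ∀ c ∈ V, c ≠ 1 → ∀ d ∈ O, Commute d c → d = 1 := fun c h1 h2 d h3 h4 =>
      mem_bot.1 (h.le ⟨cV c h1 h2 d h4, h3⟩)
    exact fpf vv ss (by rw [normalizer_eq_top]; trivial) (by rw [normalizer_eq_top]; trivial) (k v vV v1) (k s sV s1)
      (k _ (mul_mem sV vV) fun e => v1 (by rw [← y3, e]; group))
  by_cases hn : V.Normal
  · exact Or.inl fun g => nV g (hn.conj_mem v vV g)
  have : Nontrivial G := ⟨v, 1, v1⟩
  have : IsSimpleGroup G := ⟨fun N hN => or_iff_not_imp_left.2 fun h0 => by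
    obtain ⟨w, hw⟩ := ne_bot_iff_exists_ne_one.1 fun e => h0 (hO N hN e)
    have vN : v ∈ N := by
      have a := w.2.2
      rcases hc w ((mV _).1 w.2.1) with e | e | e | e
      · exact absurd (Subtype.ext e) hw
      · exact e ▸ a
      · exact y3 ▸ ys ▸ hN.conj_mem _ (hN.conj_mem _ (e ▸ a) y) y
      · exact y3 ▸ hN.conj_mem _ (e ▸ a) y
    have sN : s ∈ N := yv ▸ hN.conj_mem _ vN y
    have VN : V ≤ N := fun g hg => by
      rcases hc g ((mV g).1 hg) with rfl | rfl | rfl | rfl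
      exacts [one_mem _, vN, sN, mul_mem sN vN]
    have hS' := hS.mono VN le_top
    by_cases hy : y ∈ N
    · refine eq_top_iff.2 fun g _ => ?_
      obtain ⟨n, h1, m, h2, rfl⟩ := hS'.frattini (H := ⊤) (by rw [normalizer_eq_top]) (mem_top g)
      refine mul_mem h1 ?_
      rcases nV2 m h2 with e | e | e
      · exact VN e
      · simpa using mul_mem hy (VN e)
      · simpa using mul_mem (inv_mem hy) (VN e)
    · refine absurd (burn hS' (fun g hg => ?_) fun O h1 _ => hO O h1) fun e => hn (e ▸ hN)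
      have : g ∈ V := by
        rcases nV2 g hg.2 with e | e | e
        · exact e
        · exact absurd (by simpa using N.mul_mem hg.1 (N.inv_mem (VN e))) hy
        · exact absurd (by simpa using N.mul_mem (VN e) (N.inv_mem hg.1)) hy
      exact fun h hh => klein_commute hK hh this⟩
  exact Or.inr (Exc.a5_of_klein (orderOf_eq_prime (by rwa [pow_two]) v1) hK (hS.mono le_rfl le_top) le_normalizer)

theorem tr {K P M : Subgroup G} (hP : SylowIn 2 P K) {u : G} (uP : u ∈ P) (uK : u ∈ resOf 2 K) (uM : u ∉ M)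
    (hM : ∀ a ∈ P, ∀ b ∈ P, a ∈ resOf 2 K → b ∈ resOf 2 K → a ∉ M → b ∉ M → a * b ∈ M) {n : ℕ} (hu : u ^ 2 ^ n = 1)
    (h : ∀ k, Even k → ∀ g : G, g * u ^ k * g⁻¹ ∈ P → g * u ^ k * g⁻¹ ∈ resOf 2 K → g * u ^ k * g⁻¹ ∈ M) :
    ∃ g ∈ K, g * u * g⁻¹ ∈ M := by
  obtain ⟨g, hg⟩ := thompson_transfer_pow (Exc.index_ne_two_resOf K) (H := (P ⊓ resOf 2 K).subgroupOf (resOf 2 K))
    (M := M.subgroupOf (resOf 2 K)) (x := ⟨u, uK⟩) (n := n)
    (Nat.not_even_iff_odd.1 fun e => hP.inf_resOf.3 (even_iff_two_dvd.1 e))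
    (index_eq_two_iff.2 ⟨⟨⟨u, uK⟩, uP, uK⟩, fun b => by
      by_cases e : b.1.1 ∈ M
      · exact Or.inr ⟨e, fun e' => uM ((M.mul_mem_cancel_left e).1 e')⟩
      · exact Or.inl ⟨hM _ b.2.1 _ uP b.2.2 uK e uM, e⟩⟩) (Subtype.ext hu) fun k g hk e => h k hk g e.1 e.2
  exact ⟨g, resOf_le K g.2, hg⟩

theorem tr2 {K P M : Subgroup G} (hP : SylowIn 2 P K) {u : G} (uP : u ∈ P) (uK : u ∈ resOf 2 K) (uM : u ∉ M)
    (hM : ∀ a ∈ P, ∀ b ∈ P, a ∈ resOf 2 K → b ∈ resOf 2 K → a ∉ M → b ∉ M → a * b ∈ M) (hu : u * u = 1) :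
    ∃ g ∈ K, g * u * g⁻¹ ∈ M :=
  tr hP uP uK uM hM (n := 1) (by rwa [pow_one, pow_two]) fun k ⟨m, hm⟩ g _ _ => by
    rw [hm, ← two_mul, pow_mul, pow_two, hu]; simp

theorem a60_ext : ∀ v : A60, v * v = 1 → v ≠ 1 → ∀ y : A60, y * (y * v * y⁻¹) * y⁻¹ = y * v * y⁻¹ * v →
    ∃ k : A60, k * k = 1 ∧ k * y * (k * y) = 1 ∧ k * v * (k * v) * (k * v) = 1 ∧
    (k * (y * v * y⁻¹)) ^ 5 = 1 ∧ k * (y * v * y⁻¹) ≠ 1 ∧ k * v ≠ 1 ∧
    (∀ l : A60, l * l = 1 → l * y * (l * y) = 1 → l * v * (l * v) * (l * v) = 1 → l = k) ∧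
    ∀ u : A60, u * u * u = 1 → v * u * (v * u) = 1 → u = 1 ∨ u = k * v ∨ u = (k * v)⁻¹ ∨
      v * k * u * k * v = y ∨ v * k * u * k * v = y⁻¹ := by decide +kernel

omit [Finite G] in
theorem a5_ext {F : Subgroup G} (hF : IsA5 F) {v s y j : G} (hv : v ∈ F) (hy : y ∈ F) (vv : v * v = 1) (v1 : v ≠ 1)
    (yv : y * v * y⁻¹ = s) (ys : y * s * y⁻¹ = s * v) (y3 : y * y * y = 1) (hj : j ∈ normalizer (F : Set G))
    (jv : j * v * j⁻¹ = v) (jy : j * y * j⁻¹ = y⁻¹) :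
    ∃ k ∈ F, k * k = 1 ∧ k * y * (k * y) = 1 ∧ k * v * (k * v) * (k * v) = 1 ∧ j * k * j⁻¹ = k ∧
      (∀ B : Subgroup G, v ∈ B → y ∈ B → k ∈ B → F ≤ B) ∧ ∀ x : G, x * x * x = 1 → x * (k * v) * x⁻¹ ∈ F →
        v * (x * (k * v) * x⁻¹) * (v * (x * (k * v) * x⁻¹)) = 1 → j * (x * (k * v) * x⁻¹) * j⁻¹ = x * (k * v) * x⁻¹ →
        x * (k * v) * x⁻¹ = k * v := by
  obtain ⟨f, hf, mF⟩ := hF.model
  have y1 : y ≠ 1 := fun e => v1 (by rw [e] at yv ys; simp at yv ys; exact ys)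
  obtain ⟨v, rfl⟩ := (mF _).1 hv
  obtain ⟨y, rfl⟩ := (mF _).1 hy
  subst yv
  obtain ⟨k, h1, h2, h3, h4, h5, h6, h7, h8⟩ := a60_ext v (hf (by simpa using vv)) (fun e => v1 (by simp [e])) y
    (hf (by simpa using ys))
  have h1' : f k * f k = 1 := by simpa using congrArg f h1
  have h2' : f k * f y * (f k * f y) = 1 := by simpa using congrArg f h2
  have h3' : f k * f v * (f k * f v) * (f k * f v) = 1 := by simpa using congrArg f h3
  have kF : f k ∈ F := (mF _).2 ⟨k, rfl⟩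
  have jk : j * f k * j⁻¹ = f k := by
    obtain ⟨l, hl⟩ := (mF _).1 (conj_mem_of_mem_normalizer hj kF)
    rw [← hl, h7 l (hf ?_) (hf ?_) (hf ?_)] <;> simp only [map_mul, map_one, hl]
    · rw [conj_mul, h1']; group
    · have e : f y = j * (f y)⁻¹ * j⁻¹ := by rw [← conj_inv, jy, inv_inv]
      have e2 : (f y)⁻¹ = f k * f y * f k := inv_eq_of_mul_eq_one_left (by rw [← h2', mul_assoc])
      rw [e, conj_mul, conj_mul, conj_eq_one_iff]
      nth_rewrite 1 [e2]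
      rw [← mul_assoc, ← mul_assoc, ← mul_assoc, h1', one_mul, mul_assoc, mul_assoc, ← mul_assoc (f k), h1', one_mul,
        mul_inv_cancel]
    · rw [← jv, conj_mul, conj_mul, conj_mul, h3']; group
  refine ⟨f k, kF, h1', h2', h3', jk, fun B b1 b2 b3 => ?_, fun x x3 a1 a2 a3 => ?_⟩
  · have b4 : f (y * v * y⁻¹) ∈ B := by simpa using mul_mem (mul_mem b2 b1) (inv_mem b2)
    have d3 : 3 ∣ Nat.card (B.comap f) := by
      have := Fact.mk Nat.prime_three
      rw [← orderOf_eq_prime (x := y) (p := 3) (hf (by simpa [pow_succ] using y3)) fun e => y1 (by simp [e])]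
      exact Subgroup.orderOf_dvd_natCard _ b2
    have d5 : 5 ∣ Nat.card (B.comap f) := by
      have := Fact.mk Nat.prime_five
      rw [← orderOf_eq_prime h4 h5]
      exact Subgroup.orderOf_dvd_natCard _ (mul_mem b3 b4)
    have d4 : 4 ∣ Nat.card (B.comap f) := by
      have e1 : orderOf v = 2 := orderOf_eq_prime (hf (by simpa [pow_two] using vv)) fun e => v1 (by simp [e])
      have e0 : y * (y * v * y⁻¹) * y⁻¹ = y * v * y⁻¹ * v := hf (by simpa using ys)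
      have e2 : orderOf (y * v * y⁻¹) = 2 := by rw [← e1]; exact (SemiconjBy.orderOf_eq y (by simp [SemiconjBy])).symm
      have e3 : orderOf (y * v * y⁻¹ * v) = 2 := by rw [← e2, ← e0]; exact (SemiconjBy.orderOf_eq y (by simp [SemiconjBy])).symm
      rw [← (isKleinFour_closure e2 e1 (fun e => ne_one_of_two e3 (by rw [e, mul_self_of_two e1]))
        (show _ * _ = _ * _ by
          rw [← inv_of_two e3, mul_inv_rev, inv_of_two e1, inv_of_two e2])).card_four]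
      exact card_dvd_of_le ((closure_le _).2 (by rintro _ (rfl | rfl); exacts [b4, b1]))
    have : B.comap f = ⊤ := eq_top_of_le_card _ (by
      rw [A60.card]; exact Nat.le_of_dvd Nat.card_pos (by omega))
    intro g hg
    obtain ⟨a, rfl⟩ := (mF _).1 hg
    exact this.ge (mem_top a)
  · obtain ⟨u, hu⟩ := (mF _).1 a1
    rw [← hu] at a2 a3
    have u3 : f u * f u * f u = 1 := by rw [hu, conj_mul, conj_mul, h3']; group
    rcases h8 u (hf (by simpa using u3)) (hf (by simpa using a2)) with e | e | e | e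
    · rw [e, map_one, eq_comm, conj_eq_one_iff] at hu
      exact absurd (hf (by simpa using hu)) h6
    · rw [← hu, e, map_mul]
    · rw [e, map_inv, map_mul] at hu
      set w := f k * f v
      have e1 : w = w⁻¹ := by
        calc w = x * x * x * w * (x * x * x)⁻¹ := by rw [x3]; group
          _ = x * (x * (x * w * x⁻¹) * x⁻¹) * x⁻¹ := by group
          _ = _ := by rw [← hu, ← conj_inv, ← hu, inv_inv, ← hu]
      rw [← hu, ← e1]
    · have e1 : j * f (v * k * u * k * v) * j⁻¹ = f (v * k * u * k * v) := by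
        simp only [map_mul]
        rw [← conj_mul, ← conj_mul, ← conj_mul, ← conj_mul, jv, jk, a3]
      have e2 : f y = (f y)⁻¹ := by
        rcases e with e | e <;> rw [e] at e1
        · rw [← jy, e1]
        · rw [map_inv, ← conj_inv, jy, inv_inv] at e1; exact e1
      exact absurd (by rw [← y3]; nth_rewrite 3 [e2]; group) y1

theorem gen_top {T B : Subgroup G} (hT : SylowIn 2 T ⊤) (TB : T ≤ B) {z t : G} (zz : z * z = 1) (tt : t * t = 1)
    (zt : ¬ IsConj z t) (hz : ∀ g, g * z = z * g → g ∈ B) (ht : ∀ g, g * t = t * g → g ∈ B)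
    (h : ∀ c ∈ T, c * c = 1 → c ≠ 1 → ∃ g ∈ B, g * c * g⁻¹ = z ∨ g * c * g⁻¹ = t) (z1 : z ≠ 1) : B = ⊤ := by
  have k : ∀ c ∈ B, c * c = 1 → c ≠ 1 → ∃ g ∈ B, g * c * g⁻¹ = z ∨ g * c * g⁻¹ = t := fun c h1 h2 h3 => by
    obtain ⟨m, h4, h5⟩ := (hT.mono TB le_top).exists_cj_le (IsPGroup.of_card (n := 1) (G := zpowers c) (by
      rw [Nat.card_zpowers, orderOf_eq_prime (by rwa [pow_two]) h3]; rfl)) (zpowers_le.2 h1)
    obtain ⟨g, h6, h7⟩ := h _ (h5 (conj_mem_cj.2 (mem_zpowers c))) (by rw [conj_mul, h2]; group)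
      (fun e => h3 (conj_eq_one_iff.1 e))
    exact ⟨g * m, mul_mem h6 h4, by simpa [mul_assoc] using h7⟩
  refine eq_top_iff.2 fun g _ => ?_
  have gz : g * z * g⁻¹ * (g * z * g⁻¹) = 1 := by rw [conj_mul, zz]; group
  have nc : ¬ IsConj (g * z * g⁻¹) t := fun e => zt ((isConj_iff.2 ⟨g, rfl⟩).trans e)
  obtain ⟨c, c2, c3, c4, -⟩ := exists_central_of_not_isConj gz tt nc
  obtain ⟨m, h1, h2⟩ := k c (ht c c4) (mul_self_of_two c2) (ne_one_of_two c2)
  have h3 : m * (g * z * g⁻¹) * m⁻¹ ∈ B := by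
    have e : m * (g * z * g⁻¹) * m⁻¹ * (m * c * m⁻¹) = m * c * m⁻¹ * (m * (g * z * g⁻¹) * m⁻¹) := by
      rw [conj_mul, conj_mul, c3.eq]
    rcases h2 with h2 | h2 <;> rw [h2] at e
    exacts [hz _ e, ht _ e]
  have h4 : g * z * g⁻¹ ∈ B := by simpa [mul_assoc] using mul_mem (mul_mem (inv_mem h1) h3) h1
  obtain ⟨n, h5, e | e⟩ := k _ h4 gz fun e => z1 (conj_eq_one_iff.1 e)
  · have := hz (n * g) (mul_inv_eq_iff_eq_mul.1 (by simpa only [mul_assoc, mul_inv_rev] using e))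
    simpa using mul_mem (inv_mem h5) this
  · exact absurd (isConj_iff.2 ⟨n, e⟩) nc

variable {M : Type} [Group M] {φ : M →* G} {z : M}

/-- Subgroup given by a predicate. -/
def sg (p : M → Prop) (h : p 1 ∧ (∀ a, p a → p a⁻¹) ∧ ∀ a, p a → ∀ b, p b → p (a * b)) : Subgroup M where
  carrier := {a | p a}
  one_mem' := h.1
  inv_mem' := h.2.1 _
  mul_mem' := fun ha hb => h.2.2 _ ha _ hb

omit [Finite G] in
theorem pgrp {P : Subgroup M} (h : ∀ a ∈ P, a * a * (a * a) * (a * a * (a * a)) = 1) : IsPGroup 2 (P.map φ) :=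
  IsPGroup.map (fun a => ⟨3, Subtype.ext (by
    simpa only [SubmonoidClass.coe_pow, pow_succ, pow_zero, one_mul, mul_assoc, Nat.reduceMul, coe_mul, coe_one] using h a a.2)⟩) φ

theorem Su.syl (su : Su φ z) {P : Subgroup M} (h : ∀ a ∈ P, a * a * (a * a) * (a * a * (a * a)) = 1) {K : Subgroup G}
    (hK : P.map φ ≤ K) (hz : z ∈ P) (hu : ∀ c ∈ P, (∀ a ∈ P, a * c = c * a) → Fz φ z c → c = z)
    (hn : ∀ a, φ a ∈ K → (∀ p ∈ P, a * p * a⁻¹ ∈ P) → a ∈ P) : SylowIn 2 (P.map φ) K :=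
  sylowIn_of_maximal hK (pgrp h) fun Q hQ h1 h2 => by
    by_contra hc
    obtain ⟨g, ⟨h3, h4⟩, h5⟩ := SetLike.exists_of_lt (lt_inf_normalizer hQ (lt_of_le_of_ne h1 fun e => hc e.ge))
    obtain ⟨c, c1, c2⟩ := conj_mem_of_mem_normalizer h4 (mem_map_of_mem φ hz)
    have c3 : Cj φ g z c := c2.symm
    have := hu c c1 (fun a ha => by
      obtain ⟨b, -, b2⟩ := conj_mem_of_mem_normalizer (inv_mem h4) (mem_map_of_mem φ ha)
      have b3 : Cj φ g b a := (Cj.symm (show Cj φ g⁻¹ a b from b2.symm)).cast' (inv_inv g)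
      exact (b3.mul c3).uniq su.inj ((c3.mul b3).cast (su.zc b).symm rfl)) (Fz.refl.cj c3)
    subst this
    obtain ⟨a, rfl⟩ := su.cen g c3.comm
    refine h5 (mem_map_of_mem φ (hn a (h2 h3) fun p hp => ?_))
    obtain ⟨b, b1, b2⟩ := conj_mem_of_mem_normalizer h4 (mem_map_of_mem φ hp)
    rwa [(Cj.of a p).uniq su.inj b2.symm]

end Cfsg.Lib.X32
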