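import Cfsg.Agent.Lib.X32.Cj
import Cfsg.Agent.Lib.Comp.X8.Main
import Cfsg.Agent.Lib.Comp.X9.Main
import Cfsg.Agent.Lib.Comp.X12.Main
import Cfsg.Agent.Lib.Comp.Subst
import Cfsg.Agent.Lib.Fi.RA
import Cfsg.Agent.Lib.Golay.Stab
import Mathlib.GroupTheory.SpecificGroups.Alternating.Simple

/-!
# Recognition of `A₈`, `A₉`, `M₁₂` from relations
-/

set_option maxRecDepth 100000

namespace Cfsg.Lib.X32

open Cfsg.Lib.Comp Cfsg.Lib.Fi

universe u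

theorem alt_of_card {n : ℕ} [NeZero n] (K : Subgroup (Equiv.Perm (Fin n))) (h : Nat.card K * 2 = n.factorial) :
    K = alternatingGroup (Fin n) := by
  refine Equiv.Perm.eq_alternatingGroup_of_index_eq_two ?_
  have := K.card_mul_index
  rw [Nat.card_perm, Nat.card_fin, ← h] at this
  exact Nat.eq_of_mul_eq_mul_left Nat.card_pos this

/-- Generators on eight points. -/
def del8 : List (Equiv.Perm (Fin 8)) := [1,
 ⟨![3, 2, 0, 1, 7, 6, 4, 5], ![2, 3, 1, 0, 6, 7, 5, 4], by decide, by decide⟩,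
 ⟨![2, 3, 1, 0, 6, 7, 5, 4], ![3, 2, 0, 1, 7, 6, 4, 5], by decide, by decide⟩,
 ⟨![7, 6, 5, 4, 2, 3, 0, 1], ![6, 7, 4, 5, 3, 2, 1, 0], by decide, by decide⟩,
 ⟨![6, 7, 4, 5, 3, 2, 1, 0], ![7, 6, 5, 4, 2, 3, 0, 1], by decide, by decide⟩,
 ⟨![4, 5, 6, 7, 1, 0, 3, 2], ![5, 4, 7, 6, 0, 1, 2, 3], by decide, by decide⟩,
 ⟨![5, 4, 7, 6, 0, 1, 2, 3], ![4, 5, 6, 7, 1, 0, 3, 2], by decide, by decide⟩,
 ⟨![2, 3, 1, 0, 7, 6, 4, 5], ![3, 2, 0, 1, 6, 7, 5, 4], by decide, by decide⟩,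
 ⟨![3, 2, 0, 1, 6, 7, 5, 4], ![2, 3, 1, 0, 7, 6, 4, 5], by decide, by decide⟩,
 ⟨![0, 1, 6, 7, 2, 3, 4, 5], ![0, 1, 4, 5, 6, 7, 2, 3], by decide, by decide⟩,
 ⟨![0, 1, 4, 5, 6, 7, 2, 3], ![0, 1, 6, 7, 2, 3, 4, 5], by decide, by decide⟩,
 ⟨![1, 0, 5, 4, 3, 2, 7, 6], ![1, 0, 5, 4, 3, 2, 7, 6], by decide, by decide⟩,
 ⟨![7, 0, 2, 4, 5, 3, 6, 1], ![1, 7, 2, 5, 3, 4, 6, 0], by decide, by decide⟩,
 ⟨![1, 7, 2, 5, 3, 4, 6, 0], ![7, 0, 2, 4, 5, 3, 6, 1], by decide, by decide⟩,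
 ⟨![1, 7, 2, 4, 5, 3, 6, 0], ![7, 0, 2, 5, 3, 4, 6, 1], by decide, by decide⟩,
 ⟨![7, 0, 2, 5, 3, 4, 6, 1], ![1, 7, 2, 4, 5, 3, 6, 0], by decide, by decide⟩]

/-- Generators on nine points. -/
def del9 : List (Equiv.Perm (Fin 9)) := [1,
 ⟨![0, 4, 3, 1, 2, 8, 7, 5, 6], ![0, 3, 4, 2, 1, 7, 8, 6, 5], by decide, by decide⟩,
 ⟨![0, 3, 4, 2, 1, 7, 8, 6, 5], ![0, 4, 3, 1, 2, 8, 7, 5, 6], by decide, by decide⟩,
 ⟨![0, 8, 7, 6, 5, 3, 4, 1, 2], ![0, 7, 8, 5, 6, 4, 3, 2, 1], by decide, by decide⟩,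
 ⟨![0, 7, 8, 5, 6, 4, 3, 2, 1], ![0, 8, 7, 6, 5, 3, 4, 1, 2], by decide, by decide⟩,
 ⟨![0, 5, 6, 7, 8, 2, 1, 4, 3], ![0, 6, 5, 8, 7, 1, 2, 3, 4], by decide, by decide⟩,
 ⟨![0, 6, 5, 8, 7, 1, 2, 3, 4], ![0, 5, 6, 7, 8, 2, 1, 4, 3], by decide, by decide⟩,
 ⟨![0, 3, 4, 2, 1, 8, 7, 5, 6], ![0, 4, 3, 1, 2, 7, 8, 6, 5], by decide, by decide⟩,
 ⟨![0, 4, 3, 1, 2, 7, 8, 6, 5], ![0, 3, 4, 2, 1, 8, 7, 5, 6], by decide, by decide⟩,
 ⟨![0, 1, 2, 7, 8, 3, 4, 5, 6], ![0, 1, 2, 5, 6, 7, 8, 3, 4], by decide, by decide⟩,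
 ⟨![0, 1, 2, 5, 6, 7, 8, 3, 4], ![0, 1, 2, 7, 8, 3, 4, 5, 6], by decide, by decide⟩,
 ⟨![0, 2, 1, 6, 5, 4, 3, 8, 7], ![0, 2, 1, 6, 5, 4, 3, 8, 7], by decide, by decide⟩,
 ⟨![0, 8, 1, 3, 5, 6, 4, 7, 2], ![0, 2, 8, 3, 6, 4, 5, 7, 1], by decide, by decide⟩,
 ⟨![0, 2, 8, 3, 6, 4, 5, 7, 1], ![0, 8, 1, 3, 5, 6, 4, 7, 2], by decide, by decide⟩,
 ⟨![0, 2, 8, 3, 5, 6, 4, 7, 1], ![0, 8, 1, 3, 6, 4, 5, 7, 2], by decide, by decide⟩,
 ⟨![0, 8, 1, 3, 6, 4, 5, 7, 2], ![0, 2, 8, 3, 5, 6, 4, 7, 1], by decide, by decide⟩,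
 ⟨![3, 1, 2, 0, 4, 6, 5, 7, 8], ![3, 1, 2, 0, 4, 6, 5, 7, 8], by decide, by decide⟩]

theorem iso8 : Nonempty (cl (gp X8.nets) X8.L ≃* alternatingGroup (Fin 8)) := by
  obtain ⟨e⟩ := (RA.perm 8).iso_cl (δ := nth 1 del8) (lab := Fin.ofNat 8) (n := 8)
    (fun _ => fx_of_fxB (k := 3) X8.nets_ok (by norm_num) le_rfl (L := X8.L) (by decide +kernel))
    (fun x a p b => ptInv_gp X8.nets_ok x p ▸ (by decide +kernel : ∀ x ∈ X8.L, ∀ p < 8, (RA.perm 8).act (nth 1 del8 x)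
      (Fin.ofNat 8 p) = Fin.ofNat 8 (ptInv (nth Net.nil X8.nets x) p)) x a p b) (by decide +kernel) (by decide +kernel)
  exact ⟨e.trans (MulEquiv.subgroupCongr (alt_of_card _ (by rw [← Nat.card_congr e.toEquiv, X8.card]; rfl)))⟩

theorem iso9 : Nonempty (cl (gp X9.nets) X9.L ≃* alternatingGroup (Fin 9)) := by
  obtain ⟨e⟩ := (RA.perm 9).iso_cl (δ := nth 1 del9) (lab := Fin.ofNat 9) (n := 9)
    (fun _ => fx_of_fxB (k := 4) X9.nets_ok (by norm_num) (by norm_num) (L := X9.L) (by decide +kernel))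
    (fun x a p b => ptInv_gp X9.nets_ok x p ▸ (by decide +kernel : ∀ x ∈ X9.L, ∀ p < 9, (RA.perm 9).act (nth 1 del9 x)
      (Fin.ofNat 9 p) = Fin.ofNat 9 (ptInv (nth Net.nil X9.nets x) p)) x a p b) (by decide +kernel) (by decide +kernel)
  exact ⟨e.trans (MulEquiv.subgroupCongr (alt_of_card _ (by rw [← Nat.card_congr e.toEquiv, X9.card]; rfl)))⟩

variable {G : Type u} [Group G] {M : Type} [Group M]

/-- Letters: the model first, then further elements. -/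
def lx (φ : M →* G) (gn : ℕ → M) (l : List G) (n : ℕ) : G := if n < 12 then φ (gn n) else l.getD (n - 12) 1

variable {φ : M →* G} {gn : ℕ → M} {l : List G}

theorem ev_lx {w : List ℕ} (h : ∀ x ∈ w, x < 12) : ev (lx φ gn l) w = φ (ev gn w) := by
  induction w with
  | nil => simp [ev]
  | cons a w ih =>
    rw [List.forall_mem_cons] at h
    rw [ev_cons, ev_cons, ih h.2, map_mul, lx, if_pos h.1]

theorem rels_lx {R : List (List ℕ × ℕ)} (h : Rels gn R) (h' : ∀ r ∈ R, ∀ x ∈ r.1, x < 12) : Rels (lx φ gn l) R :=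
  fun r hr => by rw [ev_lx (h' r hr), ← map_pow, h r hr, map_one]

theorem ivOK_lx {iv : ℕ → ℕ} (h0 : gn 0 = 1) (h : ∀ n < 64, iv n < 64 ∧ (n < 12 → iv n < 12 ∧ gn (iv n) = (gn n)⁻¹) ∧
    (17 ≤ n → iv n = n)) (hl : l.length ≤ 5) (h2 : ∀ n, 12 ≤ n → n < 17 → lx φ gn l (iv n) = (lx φ gn l n)⁻¹) :
    IvOK (lx φ gn l) iv := by
  refine ⟨by simp [lx, h0], fun n hn => ⟨(h n hn).1, ?_⟩⟩
  rcases lt_or_ge n 12 with h3 | h3
  · rw [lx, lx, if_pos h3, if_pos ((h n hn).2.1 h3).1, ((h n hn).2.1 h3).2, map_inv]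
  rcases lt_or_ge n 17 with h4 | h4
  · exact h2 n h3 h4
  · rw [(h n hn).2.2 h4, lx, if_neg (by omega), List.getD_eq_default _ _ (by omega), inv_one]

theorem mm (a b : M) (w : G) : φ a * (φ b * w) = φ (a * b) * w := by rw [map_mul, mul_assoc]

theorem Cj.rel {y : G} {p q p' q' : M} (h : Cj φ y p q) (e : p' = p ∧ q * q' = 1) : y * (φ p' * (y⁻¹ * φ q')) = 1 := by
  rw [e.1, ← mul_assoc, ← mul_assoc, h, ← map_mul, e.2, map_one]

theorem rel_of {Γ : Type} [Group Γ] {γ : ℕ → Γ} {iv : ℕ → ℕ} {R : List (List ℕ × ℕ)} {L : List ℕ} {n : ℕ}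
    {X : Type} [Group X] [IsSimpleGroup X] (e : Nonempty (cl γ L ≃* X)) (h1 : IvOK γ iv) (h2 : Rels γ R)
    (ho : Ord.{u} iv R L n) (hn : Nat.card (cl γ L) = n) (h3 : IvOK (lx φ gn l) iv) (h4 : Rels (lx φ gn l) R)
    (hL : ∀ x < 12 + l.length, x = 0 ∨ x ∈ L) (hg : (gn 0 = 1 ∧ ∀ x < 16, 12 ≤ x → gn x = 1) ∧ ∀ p, ∃ c, evc gn 8 c = p)
    (hne : φ (gn 1 * gn 1) ≠ 1) : ∃ B : Subgroup G, (∀ h, φ h ∈ B) ∧ (∀ y ∈ l, y ∈ B) ∧ Nonempty (B ≃* X) := by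
  obtain ⟨e⟩ := e
  have k : ∀ x < 12 + l.length, lx φ gn l x ∈ cl (lx φ gn l) L := fun x hx =>
    (hL x hx).elim (fun e => by rw [e, h3.1]; exact one_mem _) mem_cl
  obtain ⟨f, -⟩ := embed_of_rels e.isSimpleGroup h1 h2 ho hn.ge h3 h4 (x := 1) ((hL 1 (by omega)).resolve_left one_ne_zero)
    fun e => hne (by rw [map_mul, show φ (gn 1) = 1 from e, mul_one])
  refine ⟨_, fun h => ?_, fun y hy => ?_, ⟨f.symm.trans e⟩⟩
  · obtain ⟨c, rfl⟩ := hg.2 h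
    refine Subgroup.mem_comap.1 (ev_evc (fun x hx => Subgroup.mem_comap.2 ?_) _ _)
    rcases lt_or_ge x 12 with h | h
    · have := k x (by omega)
      rwa [lx, if_pos h] at this
    · rw [hg.1.2 x hx h, map_one]; exact one_mem _
  · obtain ⟨i, hi, rfl⟩ := List.getElem_of_mem hy
    have := k (12 + i) (by omega)
    rwa [lx, if_neg (by omega), Nat.add_sub_cancel_left, List.getD_eq_getElem _ _ hi] at this

/-- The relations giving `A₈`. -/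
structure Y8 (φ : HA →* G) (y w : G) : Prop where
  y3 : y * y * y = 1
  a1 : Cj φ y (.el 10) (.el 10)
  a2 : Cj φ y (.el 11) (.el 32)
  a3 : Cj φ y (.el 32) (.el 43)
  a4 : y * φ (.el 13) * (y * φ (.el 13)) = 1
  w3 : w * w * w = 1
  b1 : Cj φ w (.el 13) (.el 13)
  b2 : Cj φ w (.el 5) (.el 32)
  b3 : Cj φ w (.el 32) (.el 37)
  b4 : w * φ (.el 10) * (w * φ (.el 10)) = 1
  xy : (φ (.el 64) * y) ^ 4 = 1
  xw : (φ (.el 64) * w) ^ 4 = 1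
  yw : y * w = w * y

theorem ivOK8 {φ : HA →* G} {y w k : G} (kk : k * k = 1) : IvOK (lx φ HA.gn [y, y⁻¹, w, w⁻¹, k]) X8.iv :=
  ivOK_lx rfl (by decide +kernel) le_rfl fun n h1 h2 => by
    have h : X8.iv 12 = 13 ∧ X8.iv 13 = 12 ∧ X8.iv 14 = 15 ∧ X8.iv 15 = 14 ∧ X8.iv 16 = 16 := by decide +kernel
    interval_cases n <;> simp [h, lx, inv_eq_of_mul_eq_one_right kk]

theorem Y8.rels {φ : HA →* G} {y w k : G} (h : Y8 φ y w) : Rels (lx φ HA.gn [y, y⁻¹, w, w⁻¹, k]) X8.R := fun r hr => by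
  rcases (by decide +kernel : ∀ r ∈ X8.R, r ∈ XA.R ∨ r ∈ [([12],2), ([12,3,7,13,3,7],0), ([12,1,3,7,13,11],0),
    ([12,11,13,11,1,3,7],0), ([12,1,5,7],1), ([14],2), ([14,1,5,7,15,1,5,7],0), ([14,1,5,15,11],0), ([14,11,15,11,1,5],0),
    ([14,3,7],1), ([9,12],3), ([9,14],3), ([12,14,13,15],0), ([12,13],0), ([14,15],0)]) r hr with e | e
  · exact rels_lx (by unfold Rels; decide +kernel) (by decide +kernel) r e
  simp only [List.mem_cons, List.not_mem_nil, or_false] at e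
  rcases e with rfl | rfl | rfl | rfl | rfl | rfl | rfl | rfl | rfl | rfl | rfl | rfl | rfl | rfl | rfl <;>
    simp only [ev, lx, List.map, List.prod_cons, List.prod_nil, Nat.reduceLT, Nat.reduceSub, reduceIte, List.getD_cons_succ,
      List.getD_cons_zero, mul_one, zero_add, pow_one, mm, ← map_mul, Nat.reduceAdd, mul_inv_cancel]
  · rw [pow_three', h.y3]
  · exact h.a1.rel (by decide +kernel)
  · exact h.a2.rel (by decide +kernel)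
  · exact h.a3.rel (by decide +kernel)
  · rw [pow_two]; exact h.a4
  · rw [pow_three', h.w3]
  · exact h.b1.rel (by decide +kernel)
  · exact h.b2.rel (by decide +kernel)
  · exact h.b3.rel (by decide +kernel)
  · rw [pow_two]; exact h.b4
  · exact h.xy
  · exact h.xw
  · rw [← mul_assoc, h.yw]; group

theorem Y8.rec8 {φ : HA →* G} {y w : G} (h : Y8 φ y w) (hz : φ (.el 16) ≠ 1) :
    ∃ B : Subgroup G, (∀ h, φ h ∈ B) ∧ y ∈ B ∧ w ∈ B ∧ Nonempty (B ≃* alternatingGroup (Fin 8)) := by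
  have := alternatingGroup.isSimpleGroup (α := Fin 8) (by simp)
  have e : lx φ HA.gn [y, y⁻¹, w, w⁻¹] = lx φ HA.gn [y, y⁻¹, w, w⁻¹, 1] := funext fun n => by
    unfold lx; split_ifs; · rfl
    rcases n - 12 with _ | _ | _ | _ | _ | n <;> simp
  obtain ⟨B, h1, h2, h3⟩ := rel_of (φ := φ) (l := [y, y⁻¹, w, w⁻¹]) iso8 X8.nets_iv X8.nets_rel X8.ord X8.card
    (e ▸ ivOK8 (mul_one 1)) (e ▸ h.rels) (show ∀ x < 16, _ by decide +kernel) ⟨by decide +kernel, fun p => ⟨_, HA.evc_wd p⟩⟩ hz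
  exact ⟨B, h1, h2 _ (by simp), h2 _ (by simp), h3⟩

theorem Y8.rec9 {φ : HA →* G} {y w k : G} (h : Y8 φ y w) (hz : φ (.el 16) ≠ 1) (kk : k * k = 1)
    (h1 : k * (y * w) * (k * (y * w)) = 1) (h2 : Cj φ k (.el 23) (.el 23))
    (h3 : k * φ (.el 14) * (k * φ (.el 14)) * (k * φ (.el 14)) = 1) (h4 : Cj φ k (.el 30) (.el 30))
    (h5 : φ (.el 69) * (k * φ (.el 14)) * (φ (.el 69))⁻¹ = k * φ (.el 14)) :
    ∃ B : Subgroup G, (∀ h, φ h ∈ B) ∧ y ∈ B ∧ w ∈ B ∧ k ∈ B ∧ Nonempty (B ≃* alternatingGroup (Fin 9)) := by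
  have := alternatingGroup.isSimpleGroup (α := Fin 9) (by simp)
  have ik := inv_eq_of_mul_eq_one_right kk
  have hr : Rels (lx φ HA.gn [y, y⁻¹, w, w⁻¹, k]) X9.R := fun r hr => by
    rcases (by decide +kernel : ∀ r ∈ X9.R, r ∈ X8.R ∨ r ∈ [([16],1), ([16,12,14],1), ([16,1,1,1,3,5],1), ([16,3,5,7],2),
      ([16,1,1,3,5,7],1), ([9,1,5,16,3,5,7,10,3,7,3,5,7,16],0)]) r hr with e | e
    · exact h.rels r e
    simp only [List.mem_cons, List.not_mem_nil, or_false] at e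
    rcases e with rfl | rfl | rfl | rfl | rfl | rfl <;>
      simp only [ev, lx, List.map, List.prod_cons, List.prod_nil, Nat.reduceLT, Nat.reduceSub, reduceIte, List.getD_cons_succ,
        List.getD_cons_zero, mul_one, zero_add, pow_one, mm, ← map_mul, Nat.reduceAdd]
    · rwa [pow_two]
    · rwa [pow_two]
    · rw [pow_two, mul_assoc]; nth_rewrite 2 [← ik]; exact h2.rel (by decide +kernel)
    · rw [pow_three']; exact h3
    · rw [pow_two, mul_assoc]; nth_rewrite 2 [← ik]; exact h4.rel (by decide +kernel)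
    · have e : ∀ {a b : HA}, a = .el 69 ∧ b = .el 14 * (.el 69)⁻¹ * (.el 14)⁻¹ → φ a * (k * (φ b * k)) = 1 := by
        rintro _ _ ⟨rfl, rfl⟩
        rw [map_mul, map_mul, map_inv, map_inv, ← mul_inv_cancel (k * φ (.el 14))]
        nth_rewrite 1 [← h5]
        rw [mul_inv_rev, ik]; group
      exact e (by decide +kernel)
  obtain ⟨B, h1, h2, h3⟩ := rel_of (φ := φ) iso9 X9.nets_iv X9.nets_rel X9.ord X9.card
    (ivOK8 kk) hr (show ∀ x < 17, _ by decide +kernel) ⟨by decide +kernel, fun p => ⟨_, HA.evc_wd p⟩⟩ hz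
  exact ⟨B, h1, h2 _ (by simp), h2 _ (by simp), h2 _ (by simp), h3⟩

theorem rec12 {φ : HB →* G} {y k : G} (hz : φ (.el 16) ≠ 1) (y3 : y * y * y = 1) (a1 : Cj φ y (.el 11) (.el 11))
    (a2 : Cj φ y (.el 32) (.el 10)) (a3 : Cj φ y (.el 10) (.el 52)) (a4 : y * φ (.el 13) * (y * φ (.el 13)) = 1)
    (kk : k * k = 1) (h1 : k * y * (k * y) = 1) (h2 : Cj φ k (.el 13) (.el 13))
    (h3 : k * φ (.el 16) * (k * φ (.el 16)) * (k * φ (.el 16)) = 1) (h4 : Cj φ k (.el 11) (.el 11))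
    (h5 : φ (.el 64) * (k * φ (.el 16)) * (φ (.el 64))⁻¹ = k * φ (.el 16)) :
    ∃ B : Subgroup G, (∀ h, φ h ∈ B) ∧ y ∈ B ∧ k ∈ B ∧ Nonempty (B ≃* Spor.M12) := by
  have := Golay.simple_M12
  have ik := inv_eq_of_mul_eq_one_right kk
  have hi : IvOK (lx φ HB.gn [y, y⁻¹, k]) X12.iv := ivOK_lx rfl (by decide +kernel) (by simp) fun n h1 h2 => by
    have h : X12.iv 12 = 13 ∧ X12.iv 13 = 12 ∧ X12.iv 14 = 14 ∧ X12.iv 15 = 15 ∧ X12.iv 16 = 16 := by decide +kernel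
    interval_cases n <;> simp [h, lx, ik]
  have hr : Rels (lx φ HB.gn [y, y⁻¹, k]) X12.R := fun r hr => by
    rcases (by decide +kernel : ∀ r ∈ X12.R, r ∈ XB.R ∨ r ∈ [([12],2), ([12,1,3,7,13,1,3,7],0), ([12,11,13,3,7],0),
      ([12,3,7,13,11,1,1,5],0), ([12,1,5,7],1), ([14],1), ([14,12],1), ([14,1,5,7],1), ([14,1,1],2), ([14,1,3,7],1),
      ([9,14,1,1,10,1,1,14],0), ([12,13],0)]) r hr with e | e
    · exact rels_lx (by unfold Rels; decide +kernel) (by decide +kernel) r e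
    simp only [List.mem_cons, List.not_mem_nil, or_false] at e
    rcases e with rfl | rfl | rfl | rfl | rfl | rfl | rfl | rfl | rfl | rfl | rfl | rfl <;>
      simp only [ev, lx, List.map, List.prod_cons, List.prod_nil, Nat.reduceLT, Nat.reduceSub, reduceIte, List.getD_cons_succ,
        List.getD_cons_zero, mul_one, zero_add, pow_one, mm, ← map_mul, Nat.reduceAdd, mul_inv_cancel]
    · rw [pow_three', y3]
    · exact a1.rel (by decide +kernel)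
    · exact a2.rel (by decide +kernel)
    · exact a3.rel (by decide +kernel)
    · rw [pow_two]; exact a4
    · rwa [pow_two]
    · rwa [pow_two]
    · rw [pow_two, mul_assoc]; nth_rewrite 2 [← ik]; exact h2.rel (by decide +kernel)
    · rw [pow_three']; exact h3
    · rw [pow_two, mul_assoc]; nth_rewrite 2 [← ik]; exact h4.rel (by decide +kernel)
    · have e : ∀ {a b : HB}, a = .el 64 ∧ b = .el 16 * (.el 64)⁻¹ * (.el 16)⁻¹ → φ a * (k * (φ b * k)) = 1 := by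
        rintro _ _ ⟨rfl, rfl⟩
        rw [map_mul, map_mul, map_inv, map_inv, ← mul_inv_cancel (k * φ (.el 16))]
        nth_rewrite 1 [← h5]
        rw [mul_inv_rev, ik]; group
      exact e (by decide +kernel)
  obtain ⟨B, h1, h2, h3⟩ := rel_of (φ := φ) (X12.perm.map .symm) X12.nets_iv X12.nets_rel X12.ord X12.card
    hi hr (show ∀ x < 15, _ by decide +kernel) ⟨by decide +kernel, fun p => ⟨_, HB.evc_wd p⟩⟩ hz
  exact ⟨B, h1, h2 _ (by simp), h2 _ (by simp), h3⟩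

end Cfsg.Lib.X32
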