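import Cfsg.Agent.Lib.X32.Tab
import Cfsg.Agent.Lib.X32.Rec

/-!
# The centraliser of type `M₁₂`
-/

set_option maxRecDepth 100000
set_option Elab.async false
set_option synthInstance.maxSize 100000

namespace Cfsg.Lib.X32

open Subgroup Cfsg.Lib.Transfer Cfsg.Lib.Invol Cfsg.Lib.JR

universe u

variable {G : Type u} [Group G] [Finite G]

local instance : Fact (Nat.Prime 2) := ⟨Nat.prime_two⟩

theorem klein_sub {F : Subgroup G} {v s y : G} (hv : v ∈ F) (hy : y ∈ F) (vv : v * v = 1) (v1 : v ≠ 1) (sv : s * v = v * s)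
    (yv : y * v * y⁻¹ = s) (ys : y * s * y⁻¹ = s * v) (hc : ∀ g ∈ F, g * v = v * g → g = 1 ∨ g = v ∨ g = s ∨ g = s * v) :
    (∀ g ∈ F, g * v * g⁻¹ = v ∨ g * v * g⁻¹ = s ∨ g * v * g⁻¹ = s * v) ∨ IsA5 F := by
  have hs : s ∈ F := yv ▸ mul_mem (mul_mem hy hv) (inv_mem hy)
  refine (klein_a5 (G := F) (v := ⟨v, hv⟩) (s := ⟨s, hs⟩) (y := ⟨y, hy⟩) (Subtype.ext vv) (fun e => v1 (congrArg Subtype.val e))
    (Subtype.ext sv) (Subtype.ext yv) (Subtype.ext ys) fun g e => ?_).imp (fun h g hg => ?_) id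
  · simpa only [Subtype.ext_iff, coe_mul, coe_one] using hc g g.2 (congrArg Subtype.val e)
  · simpa only [Subtype.ext_iff, coe_mul, coe_inv] using h ⟨g, hg⟩

omit [Finite G] in
theorem mem_cen {M : Type} [Group M] {φ : M →* G} {t p : M} (h : p * t = t * p) : φ p ∈ centralizer ({φ t} : Set G) :=
  mem_centralizer_singleton_iff.2 (by rw [← map_mul, h, map_mul])

theorem exists_cj {M : Type} [Group M] {φ : M →* G} {P : Subgroup M} {K : Subgroup G} (hP : SylowIn 2 (P.map φ) K) {a : G}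
    (ha : a ∈ K) {n : ℕ} (h : a ^ 2 ^ n = 1) : ∃ g ∈ K, ∃ p ∈ P, g * a * g⁻¹ = φ p := by
  obtain ⟨g, h1, h2⟩ := hP.exists_cj_le (Q := zpowers a) (IsPGroup.of_card_dvd_pow (n := n) (by
    rw [Nat.card_zpowers]; exact orderOf_dvd_of_pow_eq_one h)) (zpowers_le.2 ha)
  obtain ⟨p, h3, h4⟩ := h2 (conj_mem_cj.2 (mem_zpowers a))
  exact ⟨g, h1, p, h3, h4.symm⟩

namespace HB

local notation "⟪" n "⟫" => HB.el n

variable {φ : HB →* G} {y : G}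

/-- Word codes in the centraliser of `⟪5⟫`. -/
def cd (h : HB) : ℕ := Nat.mod (Nat.shiftRight 0x3121002313000000000000003231001312000000000000000000000000000121013121000000000000000231023131000023000021000000000000000012000032000000000000000000000000000323000321000000000000000312000002032121032321000000000000000313000131000000000000000000000000002121002321000000000000000013003131000232000212000000000000000001000003000000000000000000000000003232003212000000000000000031000000 (Nat.mul 24 h.1)) 16777216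

theorem hcd : (⟪5⟫ * ⟪5⟫ = 1 ∧ ⟪13⟫ * ⟪5⟫ * ⟪13⟫⁻¹ = ⟪5⟫ * ⟪16⟫ ∧ ⟪13⟫ * ⟪13⟫ = 1 ∧ In ⟪5⟫ ⟪11⟫ ∧ In ⟪5⟫ ⟪32⟫ ∧ In ⟪5⟫ ⟪10⟫) ∧
    ∀ h, h * ⟪5⟫ = ⟪5⟫ * h → rho cd ⟪11⟫ ⟪32⟫ ⟪10⟫ h = h := by decide +kernel

theorem sols : ∀ a, In ⟪5⟫ a → ∀ c, In ⟪5⟫ c → a * c * (a * c) = ⟪5⟫ → ∀ b, In ⟪5⟫ b → Cond cd ⟪16⟫ ⟪5⟫ ⟪13⟫ ⟪11⟫ ⟪32⟫ ⟪10⟫ a b c →
    (a, b, c) ∈ [(⟪11⟫, ⟪10⟫, ⟪52⟫), (⟪11⟫, ⟪15⟫, ⟪36⟫), (⟪14⟫, ⟪26⟫, ⟪33⟫), (⟪14⟫, ⟪31⟫, ⟪49⟫)] ∨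
    (a, b, c) ∈ [(⟪32⟫, ⟪52⟫, ⟪10⟫), (⟪37⟫, ⟪52⟫, ⟪31⟫), (⟪48⟫, ⟪49⟫, ⟪10⟫), (⟪53⟫, ⟪49⟫, ⟪31⟫)] := by decide +kernel

omit [Finite G] in
theorem not_fz (su : Su φ ⟪16⟫) : ¬ Fz φ ⟪16⟫ ⟪11⟫ := fun h => by
  obtain ⟨g, h1, h2⟩ := su.sym hM h (by decide) (p := ⟪3⟫) (q := ⟪5⟫) (by decide +kernel) (by decide +kernel) (by decide +kernel)
  obtain ⟨p, p1, p2⟩ := su.norm' h1 h2 (p := ⟪3⟫) (by decide +kernel) (by decide +kernel)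
  obtain ⟨q, q1, q2⟩ := su.norm' h1 h2 (p := ⟪5⟫) (by decide +kernel) (by decide +kernel)
  exact (by decide +kernel : ∀ p : HB, p * ⟪11⟫ = ⟪11⟫ * p → ∀ q, q * ⟪11⟫ = ⟪11⟫ * q → p * q * p⁻¹ * q⁻¹ ≠ ⟪11⟫ * ⟪16⟫) p p1 q q1
    ((((p2.mul q2).mul p2.inv).mul q2.inv).uniq su.inj (h2.cast (by decide +kernel) rfl))

/-- The elementary abelian normal subgroup of order eight. -/
abbrev V : Subgroup HB := sg (bm 0x84218421) (by decide +kernel)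
/-- The centraliser of `⟪11⟫`. -/
abbrev P : Subgroup HB := sg (fun h => h * ⟪11⟫ = ⟪11⟫ * h) (by decide +kernel)
/-- A dihedral subgroup. -/
abbrev D : Subgroup HB := sg (bm 0x21212121) (by decide +kernel)
/-- An elementary abelian subgroup. -/
abbrev E : Subgroup HB := sg (bm 0x48214821) (by decide +kernel)

theorem nv (su : Su φ ⟪16⟫) (h5 : Fz φ ⟪16⟫ ⟪5⟫) (y3 : y * y * y = 1) {a b c : HB}
    (h : (a, b, c) ∈ [(⟪32⟫, ⟪52⟫, ⟪10⟫), (⟪37⟫, ⟪52⟫, ⟪31⟫), (⟪48⟫, ⟪49⟫, ⟪10⟫), (⟪53⟫, ⟪49⟫, ⟪31⟫)])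
    (h1 : Cj φ y ⟪11⟫ a) (h2 : Cj φ y ⟪32⟫ b) (h3 : Cj φ y ⟪10⟫ c) : NV G := by
  simp only [List.mem_cons, Prod.mk.injEq, List.not_mem_nil, or_false] at h
  obtain ⟨k, hk⟩ : ∃ k : HB, k * ⟪32⟫ * k⁻¹ = a := by
    rcases h with ⟨rfl, -⟩ | ⟨rfl, -⟩ | ⟨rfl, -⟩ | ⟨rfl, -⟩ <;> decide +kernel
  have n32 : ¬ Fz φ ⟪16⟫ ⟪32⟫ := fun e => not_fz su ((hk ▸ e.conj k).cj h1.symm)
  refine su.nv (fun _ => HB.inj) (sylT su) card ((card_sg _ _).trans (by decide +kernel)) (V := V) (s := ⟪5⟫) (X := ⟪160⟫)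
    (fun a => (by decide +kernel : ∀ a ∈ V, a ∈ T) a) (fun h => ⟨fun e => ⟨?_, (su.fz_sq e).2⟩, fun e => ?_⟩)
    (Ac.tab (cd := cd) h1 h2 h3 (f := tf (if c = ⟪10⟫ then 0x1a000000000f000000001000000000051f000000000a00000000150000000000
      else 0xf000000001a000000001000000000050a000000001f00000000150000000000)) ?_) y3 ?_
  · rcases cls h (su.fz_sq e).1 with rfl | rfl | ⟨k, rfl | rfl | rfl⟩
    · exact one_mem _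
    · decide +kernel
    · exact (by decide +kernel : ∀ k, k * ⟪5⟫ * k⁻¹ ∈ V) k
    · exact absurd e.of_conj (not_fz su)
    · exact absurd e.of_conj n32
  · rcases (by decide +kernel : ∀ h ∈ V, h = 1 ∨ h = ⟪16⟫ ∨ ∃ k, k * ⟪5⟫ * k⁻¹ = h) h e.1 with rfl | rfl | ⟨k, rfl⟩
    exacts [absurd rfl e.2, Fz.refl, h5.conj k]
  all_goals
    clear hk
    rcases h with ⟨rfl, rfl, rfl⟩ | ⟨rfl, rfl, rfl⟩ | ⟨rfl, rfl, rfl⟩ | ⟨rfl, rfl, rfl⟩ <;> decide +kernel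

theorem std (su : Su φ ⟪16⟫) (hy : Y3 φ ⟪16⟫ ⟪5⟫ ⟪13⟫ y) (h1 : Cj φ y ⟪11⟫ ⟪11⟫) (h2 : Cj φ y ⟪32⟫ ⟪10⟫)
    (h3 : Cj φ y ⟪10⟫ ⟪52⟫) : Spor.IsoM12 G := by
  have n11 := not_fz su
  have f5 : Fz φ ⟪16⟫ ⟪5⟫ := Fz.refl.cj hy.yz
  have f21 : Fz φ ⟪16⟫ (⟪5⟫ * ⟪16⟫) := f5.cj hy.ys
  have c10 : Cj φ (φ ⟪64⟫) ⟪5⟫ ⟪10⟫ := (Cj.of _ _).cast rfl (by decide +kernel)
  have f32 : Fz φ ⟪16⟫ ⟪32⟫ := (f5.cj c10).cj h2.symm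
  set K := centralizer ({φ ⟪11⟫} : Set G) with hK
  have mK : ∀ g, g ∈ K ↔ g * φ ⟪11⟫ = φ ⟪11⟫ * g := fun g => mem_centralizer_singleton_iff
  have mP : ∀ a, φ a ∈ K → a ∈ P := fun a e => su.eq (by rw [map_mul, map_mul, (mK _).1 e])
  have hP : SylowIn 2 (P.map φ) K := su.syl (by decide +kernel) (map_le_iff_le_comap.2 fun a ha => mem_cen ha)
    (by decide +kernel) (fun c c1 c2 c3 => by
      rcases (by decide +kernel : ∀ c ∈ P, (∀ a ∈ P, a * c = c * a) → c = 1 ∨ c = ⟪16⟫ ∨ ∃ k, k * ⟪11⟫ * k⁻¹ = c) c c1 c2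
        with rfl | rfl | ⟨k, rfl⟩
      exacts [absurd rfl (su.fz_sq c3).2, rfl, absurd c3.of_conj n11]) fun a h _ => mP a h
  have yK : y ∈ K := (mK y).2 h1.comm
  obtain ⟨y0, z0, s0⟩ := hy.mem su yK (mem_cen (by decide +kernel)) (by decide +kernel)
  set F := resOf 2 K with hF
  have nF : ∀ g ∈ K, ∀ a ∈ F, g * a * g⁻¹ ∈ F := fun g hg a ha => conj_mem_of_mem_normalizer (le_normalizer_resOf K hg) ha
  have idx : ∀ {S : Subgroup HB}, (∀ a ∈ P, a ∉ S → ∀ b ∈ P, b ∉ S → a * b ∈ S) → ∀ a ∈ P.map φ, ∀ b ∈ P.map φ, a ∈ F → b ∈ F →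
      a ∉ S.map φ → b ∉ S.map φ → a * b ∈ S.map φ := by
    rintro S h _ ⟨a, ha, rfl⟩ _ ⟨b, hb, rfl⟩ - - e1 e2
    exact ⟨_, h a ha (fun e => e1 ⟨a, e, rfl⟩) b hb fun e => e2 ⟨b, e, rfl⟩, map_mul φ a b⟩
  have t0 : φ ⟪11⟫ ∉ F := fun e => by
    have n : φ ⟪11⟫ ∉ D.map φ := fun ⟨a, ha, e⟩ => (by decide +kernel : ⟪11⟫ ∉ D) (su.eq e ▸ ha)
    obtain ⟨g, g1, g2⟩ := tr2 hP (mem_map_of_mem φ (by decide +kernel)) e n (idx (by decide +kernel))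
      (by rw [← map_mul, show ⟪11⟫ * ⟪11⟫ = 1 by decide +kernel, map_one])
    rw [(mK g).1 g1, mul_inv_cancel_right] at g2
    exact n g2
  have vF : ∀ v ∈ [1, ⟪16⟫, ⟪5⟫, ⟪5⟫ * ⟪16⟫], φ v ∈ F := by
    simp only [List.forall_mem_cons, map_one, map_mul]
    exact ⟨one_mem _, z0, s0, mul_mem s0 z0, by simp⟩
  have PF : ∀ p ∈ P, φ p ∈ F → p ∈ [1, ⟪16⟫, ⟪5⟫, ⟪5⟫ * ⟪16⟫] := fun p p1 p2 => by
    rcases (by decide +kernel : ∀ p ∈ P, p ∈ [1, ⟪16⟫, ⟪5⟫, ⟪5⟫ * ⟪16⟫] ∨ ∃ v ∈ [1, ⟪16⟫, ⟪5⟫, ⟪5⟫ * ⟪16⟫], p * v = ⟪11⟫ ∨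
      (p * v ∈ P ∧ p * v ∉ E ∧ p * v * (p * v) = 1 ∧ ∃ k, k * ⟪11⟫ * k⁻¹ = p * v)) p p1 with e | ⟨v, hv, e | ⟨e1, e2, e3, k, e4⟩⟩
    · exact e
    · exact absurd (e ▸ map_mul φ p v ▸ mul_mem p2 (vF v hv)) t0
    have e5 : φ (p * v) ∈ F := map_mul φ p v ▸ mul_mem p2 (vF v hv)
    obtain ⟨g, g1, a, ha, g2⟩ := tr2 hP ⟨_, e1, rfl⟩ e5 (M := E.map φ) (fun ⟨a, ha, e⟩ => e2 (su.eq e ▸ ha))
      (idx (by decide +kernel)) (by rw [← map_mul, e3, map_one])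
    have g3 : Cj φ g (p * v) a := g2.symm
    have nf : ¬ Fz φ ⟪16⟫ a := fun e => n11 (Fz.of_conj (e4 ▸ e.cj g3.symm))
    rcases (by decide +kernel : ∀ a ∈ E, a = 1 ∨ a = ⟪16⟫ ∨ a = ⟪5⟫ ∨ a = ⟪5⟫ * ⟪16⟫ ∨ ∃ v ∈ [1, ⟪16⟫, ⟪5⟫, ⟪5⟫ * ⟪16⟫],
      a * v = ⟪11⟫) a ha with rfl | rfl | rfl | rfl | ⟨w, hw, e⟩
    · exact absurd (g3.symm.uniq su.inj Cj.one ▸ one_mem E) e2
    · exact absurd Fz.refl nf
    · exact absurd f5 nf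
    · exact absurd f21 nf
    · exact absurd (e ▸ map_mul φ a w ▸ mul_mem (g2 ▸ nF g g1 _ e5) (vF w hw)) t0
  have zz : φ ⟪16⟫ * φ ⟪16⟫ = 1 := by rw [← map_mul, su.zz, map_one]
  have z1 : φ ⟪16⟫ ≠ 1 := fun e => su.z1 (su.eq (e.trans (map_one φ).symm))
  have tt : φ ⟪11⟫ * φ ⟪11⟫ = 1 := by rw [← map_mul, show ⟪11⟫ * ⟪11⟫ = 1 by decide +kernel, map_one]
  have ys : y * φ ⟪5⟫ * y⁻¹ = φ ⟪5⟫ * φ ⟪16⟫ := hy.ys.trans (map_mul _ _ _)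
  rcases klein_sub z0 y0 zz z1 (by rw [← map_mul, su.zc, map_mul]) hy.yz ys (fun g g1 g2 => by
    obtain ⟨h, rfl⟩ := su.cen g g2
    have := PF h (mP h (resOf_le K g1)) g1
    simp only [List.mem_cons, List.not_mem_nil, or_false] at this
    rcases this with rfl | rfl | rfl | rfl <;> simp) with hn | h5
  · exfalso
    let S : G → Prop := fun a => ∃ v ∈ [⟪16⟫, ⟪5⟫, ⟪5⟫ * ⟪16⟫], φ v = a
    have yz : Cj φ y (⟪5⟫ * ⟪16⟫) ⟪16⟫ := (hy.ys.mul hy.yz).cast rfl (by decide +kernel)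
    have n1 : ∀ g ∈ F, S (g * φ ⟪16⟫ * g⁻¹) := fun g hg => by
      rcases hn g hg with e | e | e <;> rw [e]
      exacts [⟨_, by simp, rfl⟩, ⟨_, by simp, rfl⟩, ⟨_, by simp, map_mul _ _ _⟩]
    have n2 : ∀ g ∈ K, ∀ a, S a → S (g * a * g⁻¹) := by
      rintro g hg _ ⟨v, hv, rfl⟩
      obtain ⟨w, hw, _, ⟨p, hp, rfl⟩, rfl⟩ := hP.exists_resOf_mul hg
      have e := Cj.of (φ := φ) p v
      have := (by decide +kernel : ∀ p ∈ P, ∀ v ∈ [⟪16⟫, ⟪5⟫, ⟪5⟫ * ⟪16⟫], p * v * p⁻¹ = ⟪16⟫ ∨ p * v * p⁻¹ = ⟪5⟫ ∨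
        p * v * p⁻¹ = ⟪5⟫ * ⟪16⟫) p hp v hv
      rw [show w * φ p * φ v * (w * φ p)⁻¹ = w * (φ p * φ v * (φ p)⁻¹) * w⁻¹ by group, e]
      rcases this with e | e | e <;> rw [e]
      · exact n1 w hw
      · have := n1 _ (mul_mem hw y0)
        rwa [show w * y * φ ⟪16⟫ * (w * y)⁻¹ = w * (y * φ ⟪16⟫ * y⁻¹) * w⁻¹ by group, hy.yz] at this
      · have := n1 _ (mul_mem hw (inv_mem y0))
        rwa [show w * y⁻¹ * φ ⟪16⟫ * (w * y⁻¹)⁻¹ = w * (y⁻¹ * φ ⟪16⟫ * y⁻¹⁻¹) * w⁻¹ by group, yz.symm] at this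
    have sq : ∀ a, IsConj (φ ⟪16⟫) a → a * a = 1 := fun a h => by
      obtain ⟨g, rfl⟩ := isConj_iff.1 h; rw [conj_mul, zz]; group
    have n3 : ∀ a ∈ K, IsConj (φ ⟪16⟫) a → S a := fun a a1 a2 => by
      obtain ⟨g, g1, p, p1, e⟩ := exists_cj hP a1 (n := 1) (by rw [pow_one, pow_two, sq a a2])
      have f : Fz φ ⟪16⟫ p := a2.trans (isConj_iff.2 ⟨g, e⟩)
      have := n2 _ (inv_mem g1) _ ⟨p, ((by decide +kernel : ∀ p ∈ P, p * p = 1 → p ≠ 1 → (∃ k, k * ⟪11⟫ * k⁻¹ = p) ∨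
        p ∈ [⟪16⟫, ⟪5⟫, ⟪5⟫ * ⟪16⟫]) p p1 (su.fz_sq f).1 (su.fz_sq f).2).resolve_left fun ⟨k, hk⟩ =>
          n11 (Fz.of_conj (hk ▸ f)), rfl⟩
      rwa [← e, show g⁻¹ * (g * a * g⁻¹) * g⁻¹⁻¹ = a by group] at this
    have n4 : ∀ a, S a → IsConj (φ ⟪16⟫) a := by
      rintro _ ⟨v, hv, rfl⟩
      simp only [List.mem_cons, List.not_mem_nil, or_false] at hv
      rcases hv with rfl | rfl | rfl
      exacts [Fz.refl, f5, f21]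
    have n5 : ∀ a, IsConj (φ ⟪16⟫) a → ∃ v, S v ∧ a * v = v * a := fun a ha => by
      obtain ⟨c, c2, c3, c4, -⟩ := exists_central_of_not_isConj (sq a ha) tt fun e => n11 (ha.trans e)
      have cK := (mK c).2 c4
      by_cases hc : IsConj (φ ⟪16⟫) c
      · exact ⟨c, n3 c cK hc, c3.symm⟩
      obtain ⟨g, hg⟩ : ∃ g, g * c * g⁻¹ = φ ⟪11⟫ := by
        obtain ⟨g, -, h, -, e⟩ := exists_cj (sylT su) (mem_top c) (n := 1) (by rw [pow_one, ← c2, pow_orderOf_eq_one])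
        have nf : ¬ Fz φ ⟪16⟫ h := fun f => hc (IsConj.trans f (isConj_iff.2 ⟨g, e⟩).symm)
        rcases cls h (su.eq (by rw [map_mul, ← e, conj_mul, mul_self_of_two c2]; simp)) with rfl | rfl | ⟨k, rfl | rfl | rfl⟩
        · rw [map_one, conj_eq_one_iff] at e; exact absurd e (ne_one_of_two c2)
        · exact absurd Fz.refl nf
        · exact absurd (f5.conj k) nf
        · exact isConj_iff.1 ((isConj_iff.2 ⟨g, e⟩).trans (Cj.of k _).isConj.symm)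
        · exact absurd (f32.conj k) nf
      obtain ⟨v, v1, v2⟩ : ∃ v, S v ∧ v * c = c * v := by
        obtain ⟨v, hv, e⟩ := n2 c cK _ ⟨⟪16⟫, by simp, rfl⟩
        have e1 : Cj φ c ⟪16⟫ v := e.symm
        have e2 : Cj φ c v ⟪16⟫ := e1.symm.cast' (inv_of_two c2)
        have e3 := (e1.mul e2).cast rfl (su.zc v)
        simp only [List.mem_cons, List.not_mem_nil, or_false] at hv
        rcases hv with rfl | rfl | rfl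
        · exact ⟨_, ⟨_, by simp, rfl⟩, e1.comm.symm⟩
        · exact ⟨_, ⟨⟪5⟫ * ⟪16⟫, by simp, rfl⟩, (e3.cast (by decide +kernel) (by decide +kernel)).comm.symm⟩
        · exact ⟨_, ⟨⟪5⟫, by simp, rfl⟩, (e3.cast (by decide +kernel) (by decide +kernel)).comm.symm⟩
      have k : ∀ b, IsConj (φ ⟪16⟫) b → b * c = c * b → S (g * b * g⁻¹) := fun b b1 b2 =>
        n3 _ ((mK _).2 (by rw [← hg, conj_mul, conj_mul, b2])) (b1.trans (isConj_iff.2 ⟨g, rfl⟩))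
      obtain ⟨p, p1, p2⟩ := k a ha c3.symm
      obtain ⟨q, q1, q2⟩ := k v (n4 v v1) v2
      refine ⟨v, v1, (MulAut.conj g).injective ?_⟩
      simp only [map_mul, MulAut.conj_apply, ← p2, ← q2]
      rw [← map_mul, ← map_mul, (by decide +kernel : ∀ p ∈ [⟪16⟫, ⟪5⟫, ⟪5⟫ * ⟪16⟫], ∀ q ∈ [⟪16⟫, ⟪5⟫, ⟪5⟫ * ⟪16⟫],
        p * q = q * p) p p1 q q1]
    have f152 : Fz φ ⟪16⟫ ⟪152⟫ := f32.cj ((Cj.of ⟪72⟫ _).cast rfl (by decide +kernel))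
    obtain ⟨_, ⟨v, hv, rfl⟩, e⟩ := n5 ((y * φ ⟪64⟫)⁻¹ * φ ⟪152⟫ * (y * φ ⟪64⟫)⁻¹⁻¹) (IsConj.trans f152 (isConj_iff.2 ⟨_, rfl⟩))
    have k : ∀ w, Cj φ (y * φ ⟪64⟫) v w → ⟪152⟫ * w = w * ⟪152⟫ := fun w h => su.eq (by
      rw [map_mul, map_mul, ← h]
      calc _ = y * φ ⟪64⟫ * ((y * φ ⟪64⟫)⁻¹ * φ ⟪152⟫ * (y * φ ⟪64⟫)⁻¹⁻¹ * φ v) * (y * φ ⟪64⟫)⁻¹ := by group
        _ = _ := by rw [e]; group)
    have a1 : Cj φ (y * φ ⟪64⟫) ⟪16⟫ ⟪5⟫ := ((Cj.of _ _).cast rfl (by decide +kernel)).comp hy.yz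
    simp only [List.mem_cons, List.not_mem_nil, or_false] at hv
    rcases hv with rfl | rfl | rfl
    exacts [absurd (k _ a1) (by decide +kernel), absurd (k _ (c10.comp h3)) (by decide +kernel),
      absurd (k _ ((c10.comp h3).mul a1)) (by decide +kernel)]
  have jK : φ ⟪13⟫ ∈ K := mem_cen (by decide +kernel)
  have jz : φ ⟪13⟫ * φ ⟪16⟫ * (φ ⟪13⟫)⁻¹ = φ ⟪16⟫ := (Cj.of _ _).cast rfl (by decide +kernel)
  obtain ⟨k, k0, kk, ky, kz, kj, hB, hx⟩ := a5_ext h5 z0 y0 zz z1 hy.yz ys hy.y3 (le_normalizer_resOf K jK) jz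
    (hy.inv (by decide +kernel))
  have kK := (mK k).1 (resOf_le K k0)
  have u1 : k * φ ⟪16⟫ * φ ⟪11⟫ = φ ⟪11⟫ * (k * φ ⟪16⟫) := (mK _).1 (resOf_le K (mul_mem k0 z0))
  have u2 : k * φ ⟪16⟫ * φ ⟪13⟫ = φ ⟪13⟫ * (k * φ ⟪16⟫) := (mul_inv_eq_iff_eq_mul.1 (by rw [← conj_mul, kj, jz])).symm
  have u3 : ∀ p q, k * φ ⟪16⟫ * φ p = φ p * (k * φ ⟪16⟫) → ⟪64⟫ * p * ⟪64⟫⁻¹ = q →
      φ q * (φ ⟪64⟫ * (k * φ ⟪16⟫) * (φ ⟪64⟫)⁻¹) * (φ q)⁻¹ = φ ⟪64⟫ * (k * φ ⟪16⟫) * (φ ⟪64⟫)⁻¹ := by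
    rintro p _ h rfl
    rw [← Cj.of ⟪64⟫ p, conj_mul, ← h]; group
  have u4 := hx (φ ⟪64⟫) (by rw [← map_mul, ← map_mul, show ⟪64⟫ * ⟪64⟫ * ⟪64⟫ = 1 by decide +kernel, map_one])
    (mem_resOf ((mK _).2 (mul_inv_eq_iff_eq_mul.1 (u3 (⟪11⟫ * ⟪13⟫) _ (by
      rw [map_mul, ← mul_assoc, u1, mul_assoc, u2, mul_assoc]) (by decide +kernel))).symm) (Nat.Coprime.coprime_dvd_left
      (orderOf_dvd_of_pow_eq_one (n := 3) (by rw [pow_three', conj_mul, conj_mul, kz]; group)) (by norm_num)))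
    (by
      have e : φ ⟪64⟫ * φ ⟪16⟫ * (φ ⟪64⟫)⁻¹ = φ ⟪16⟫ := (Cj.of _ _).cast rfl (by decide +kernel)
      have e2 : φ ⟪16⟫ * (φ ⟪64⟫ * (k * φ ⟪16⟫) * (φ ⟪64⟫)⁻¹) = φ ⟪64⟫ * (φ ⟪16⟫ * (k * φ ⟪16⟫)) * (φ ⟪64⟫)⁻¹ := by
        rw [← conj_mul (a := φ ⟪16⟫), e]
      rw [e2, conj_mul, conj_eq_one_iff, mul_assoc, mul_assoc, ← mul_assoc (φ ⟪16⟫) (φ ⟪16⟫), zz, one_mul, ← mul_assoc k, kk,
        one_mul, zz]) (u3 _ _ u1 (by decide +kernel))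
  obtain ⟨B, b1, b2, b3, ⟨e⟩⟩ := rec12 z1 hy.y3 h1 h2 h3 hy.jy kk ky (Cj.of_comm (mul_inv_eq_iff_eq_mul.1 kj).symm) kz
    (Cj.of_comm kK) u4
  have hB : B = ⊤ := gen_top (sylT su) (map_le_iff_le_comap.2 fun a _ => b1 a) zz tt n11
    (fun g hg => by obtain ⟨h, rfl⟩ := su.cen g hg; exact b1 h)
    (fun g hg => (hP.resOf_sup.ge.trans (sup_le (hB B (b1 _) b2 b3) (map_le_iff_le_comap.2 fun a _ => b1 a))) ((mK g).2 hg))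
    (by
      rintro _ ⟨h, -, rfl⟩ e1 e2
      have k : ∀ (k p q : HB) g, g ∈ B → Cj φ g p q → ∃ g ∈ B, Cj φ g (k * p * k⁻¹) q := fun k p q g g1 g2 =>
        ⟨_, mul_mem g1 (inv_mem (b1 k)), (Cj.of k p).symm.comp g2⟩
      rcases cls h (su.eq (by rw [map_mul, e1, map_one])) with rfl | rfl | ⟨l, rfl | rfl | rfl⟩
      · exact absurd (map_one φ) e2
      · exact ⟨1, one_mem _, Or.inl Cj.id⟩
      · exact (k l _ _ _ (inv_mem b2) hy.yz.symm).imp fun g h => ⟨h.1, Or.inl h.2⟩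
      · exact (k l _ _ _ (one_mem _) Cj.id).imp fun g h => ⟨h.1, Or.inr h.2⟩
      · exact (k l _ _ _ (mul_mem (inv_mem b2) (mul_mem (inv_mem (b1 _)) b2)) ((h2.comp c10.symm).comp hy.yz.symm)).imp
          fun g h => ⟨h.1, Or.inl h.2⟩) z1
  exact ⟨((MulEquiv.subgroupCongr hB).trans topEquiv).symm.trans e⟩

theorem beta : ∃ β : HB →* HB, Function.Injective β ∧ β ⟪16⟫ = ⟪16⟫ ∧ β ⟪5⟫ = ⟪5⟫ ∧ β ⟪13⟫ = ⟪13⟫ ∧ β ⟪11⟫ = ⟪11⟫ ∧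
    β ⟪10⟫ = ⟪10⟫ ∧ β ⟪32⟫ = ⟪48⟫ ∧ β ⟪52⟫ = ⟪36⟫ := by
  obtain ⟨β, h⟩ := exists_homB (a := ⟪1⟫) (b := ⟪2⟫) (c := ⟪4⟫) (d := ⟪8⟫) (x := ⟪64⟫) (t := ⟪48⟫) (by decide +kernel)
    (by decide +kernel) (by decide +kernel) (by decide +kernel) (by decide +kernel)
  refine ⟨β, HB.inj ?_, ?_⟩ <;> simp only [eval β h] <;> decide +kernel

theorem main (su : Su φ ⟪16⟫) {q : HB} (h1 : q.1 < 32) (h2 : q ≠ ⟪16⟫) (h3 : Fz φ ⟪16⟫ q) : NV G ∨ Spor.IsoM12 G := by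
  have f5 : Fz φ ⟪16⟫ ⟪5⟫ := by
    rcases (by decide +kernel : ∀ q : HB, q.1 < 32 → q * q = 1 → q = 1 ∨ q = ⟪16⟫ ∨ ∃ k, k * ⟪5⟫ * k⁻¹ = q ∨
      k * ⟪11⟫ * k⁻¹ = q) q h1 (su.fz_sq h3).1 with e | e | ⟨k, rfl | rfl⟩
    exacts [absurd e (su.fz_sq h3).2, absurd e h2, h3.of_conj, absurd h3.of_conj (not_fz su)]
  obtain ⟨g, g1, g2⟩ := su.sym hM f5 (by decide) (p := ⟪1⟫) (q := ⟪10⟫) (by decide +kernel) (by decide +kernel) (by decide +kernel)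
  obtain ⟨y, hy⟩ := su.exists_Y3 g1 g2 (j := ⟪13⟫) (by decide +kernel) (by decide +kernel) (by decide +kernel) (by decide +kernel)
  obtain ⟨a, a1, b, b1, c, c1, h, a2, b2, c2⟩ := su.exists_rho hy hcd
  refine (sols a a1 c c1 (((a2.mul c2).mul (a2.mul c2)).uniq su.inj (hy.yz.cast (by decide +kernel) rfl)) b b1 h).symm.imp (fun h => nv su f5 hy.y3 h a2 b2 c2) fun h => ?_
  have k1 : ∀ {y}, Y3 φ ⟪16⟫ ⟪5⟫ ⟪13⟫ y → Cj φ y ⟪11⟫ ⟪11⟫ → Cj φ y ⟪32⟫ ⟪15⟫ → Cj φ y ⟪10⟫ ⟪36⟫ → Spor.IsoM12 G :=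
    fun {y} hy a2 b2 c2 => by
      obtain ⟨β, hβ, e1, e2, e3, e4, e5, e6, e7⟩ := beta
      refine std (su.comp hβ e1) (y := y) ⟨hy.y3, ?_, ?_, ?_⟩ ?_ ?_ ?_ <;>
        simp only [Cj.comp_iff, MonoidHom.comp_apply, map_mul β, e1, e2, e3, e4, e5, e6, e7]
      exacts [hy.jy, hy.yz, hy.ys, a2, (b2.mul hy.yz).cast (by decide +kernel) (by decide +kernel), c2]
  have hy' := hy.conj (k := ⟪10⟫) (by decide +kernel) (by decide +kernel) (by decide +kernel)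
  have k2 := fun h e => (Cj.rho (cd := cd) (h := h) a2 b2 c2 (hcd.2 h e)).conj ⟪10⟫
  simp only [List.mem_cons, Prod.mk.injEq, List.not_mem_nil, or_false] at h
  rcases h with ⟨rfl, rfl, rfl⟩ | ⟨rfl, rfl, rfl⟩ | ⟨rfl, rfl, rfl⟩ | ⟨rfl, rfl, rfl⟩
  · exact std su hy a2 b2 c2
  · exact k1 hy a2 b2 c2
  · exact k1 hy' ((k2 ⟪27⟫ (by decide +kernel)).cast (by decide +kernel) (by decide +kernel))
      ((k2 ⟪37⟫ (by decide +kernel)).cast (by decide +kernel) (by decide +kernel))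
      ((k2 ⟪10⟫ (by decide +kernel)).cast (by decide +kernel) (by decide +kernel))
  · exact std su hy' ((k2 ⟪27⟫ (by decide +kernel)).cast (by decide +kernel) (by decide +kernel))
      ((k2 ⟪37⟫ (by decide +kernel)).cast (by decide +kernel) (by decide +kernel))
      ((k2 ⟪10⟫ (by decide +kernel)).cast (by decide +kernel) (by decide +kernel))

end HB

end Cfsg.Lib.X32
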