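import Cfsg.Agent.Lib.X32.CaseA1

/-!
# The centraliser of type `A₈`: recognition
-/

set_option maxRecDepth 100000
set_option synthInstance.maxSize 100000
set_option Elab.async false

namespace Cfsg.Lib.X32

open Subgroup Cfsg.Lib.Transfer Cfsg.Lib.Invol Cfsg.Lib.JR

universe u

variable {G : Type u} [Group G] [Finite G]

local instance : Fact (Nat.Prime 2) := ⟨Nat.prime_two⟩

omit [Finite G] in
theorem mem_res {K : Subgroup G} {v s y : G} (hy : y ∈ K) (hv : v ∈ K) (y3 : y * y * y = 1) (vv : v * v = 1)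
    (sv : s * v = v * s) (yv : y * v * y⁻¹ = s) (ys : y * s * y⁻¹ = s * v) :
    y ∈ resOf 2 K ∧ v ∈ resOf 2 K ∧ s ∈ resOf 2 K := by
  have ss : s * s = 1 := by rw [← yv, conj_mul, vv]; group
  have h1 : y ∈ resOf 2 K := mem_resOf hy (Nat.Coprime.coprime_dvd_left
    (orderOf_dvd_of_pow_eq_one (n := 3) (by rw [pow_three', y3])) (by norm_num))
  have h2 : s * v ∈ resOf 2 K := by
    have := mul_mem h1 (conj_mem_of_mem_normalizer (le_normalizer_resOf K hv) (inv_mem h1))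
    rwa [inv_eq_of_mul_eq_one_right vv, ← mul_assoc, ← mul_assoc, yv] at this
  have h3 : v ∈ resOf 2 K := by
    have := mul_mem (mul_mem h1 h2) (inv_mem h1)
    rwa [← conj_mul, ys, yv, mul_assoc, ← sv, ← mul_assoc, ss, one_mul] at this
  exact ⟨h1, h3, yv ▸ mul_mem (mul_mem h1 h3) (inv_mem h1)⟩

namespace HA

local notation "⟪" n "⟫" => HA.el n

variable {φ : HA →* G} {y w : G}

/-- The centraliser of `⟪30⟫`. -/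
abbrev P : Subgroup HA := sg (fun h => h * ⟪30⟫ = ⟪30⟫ * h) (by decide +kernel)
/-- The third elementary abelian normal subgroup of order eight. -/
abbrev V3 : Subgroup HA := sg (bm 0x42814281) (by decide +kernel)
/-- A hyperplane of `A`. -/
abbrev E : Subgroup HA := sg (bm 0x4801002000204801) (by decide +kernel)

theorem std (su : Su φ ⟪16⟫) (h : S1 φ y) (h' : S2 φ w) (e : y * w = w * y) :
    Nonempty (G ≃* alternatingGroup (Fin 8)) ∨ Nonempty (G ≃* alternatingGroup (Fin 9)) := by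
  have n30 := not30 su h h'
  have h8 := y8 su h h' e
  have ac := h.ac.mul h'.ac
  set K := centralizer ({φ ⟪30⟫} : Set G) with hK
  have mK : ∀ g, g ∈ K ↔ g * φ ⟪30⟫ = φ ⟪30⟫ * g := fun g => mem_centralizer_singleton_iff
  have mP : ∀ a, φ a ∈ K → a ∈ P := fun a e => su.eq (by rw [map_mul, map_mul, (mK _).1 e])
  have PK : P.map φ ≤ K := map_le_iff_le_comap.2 fun a ha => mem_cen ha
  have hP : SylowIn 2 (P.map φ) K := su.syl (by decide +kernel) PK (by decide +kernel) (fun c c1 c2 c3 => by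
      rcases (by decide +kernel : ∀ c ∈ P, (∀ a ∈ P, a * c = c * a) → c = 1 ∨ c = ⟪16⟫ ∨ ∃ k, k * ⟪30⟫ * k⁻¹ = c) c c1 c2
        with rfl | rfl | ⟨k, rfl⟩
      exacts [absurd rfl (su.fz_sq c3).2, rfl, absurd c3.of_conj n30]) fun a h _ => mP a h
  have yK : y * w ∈ K := (mK _).2 ((ac ⟪30⟫ (by decide +kernel)).2.cast rfl (by decide +kernel)).comm
  have y3 : y * w * (y * w) * (y * w) = 1 := by
    rw [← pow_three', (show Commute y w from e).mul_pow, pow_three', pow_three', h.y3.y3, h'.y3.y3, one_mul]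
  have yv : Cj φ (y * w) ⟪14⟫ ⟪62⟫ := (ac _ (by decide +kernel)).2.cast rfl (by decide +kernel)
  have ys' : Cj φ (y * w) ⟪62⟫ (⟪62⟫ * ⟪14⟫) := (ac _ (by decide +kernel)).2.cast rfl (by decide +kernel)
  have ys : y * w * φ ⟪62⟫ * (y * w)⁻¹ = φ ⟪62⟫ * φ ⟪14⟫ := ys'.trans (map_mul _ _ _)
  have vv : φ ⟪14⟫ * φ ⟪14⟫ = 1 := by rw [← map_mul, show ⟪14⟫ * ⟪14⟫ = 1 by decide +kernel, map_one]
  have v1 : φ ⟪14⟫ ≠ 1 := fun e => absurd (su.eq (e.trans (map_one φ).symm)) (by decide +kernel)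
  have sv : φ ⟪62⟫ * φ ⟪14⟫ = φ ⟪14⟫ * φ ⟪62⟫ := by
    rw [← map_mul, ← map_mul, show ⟪62⟫ * ⟪14⟫ = ⟪14⟫ * ⟪62⟫ by decide +kernel]
  obtain ⟨y0, v0, s0⟩ := mem_res yK (mem_cen (by decide +kernel)) y3 vv sv yv ys
  set F := resOf 2 K with hF
  have nF : ∀ g ∈ K, ∀ a ∈ F, g * a * g⁻¹ ∈ F := fun g hg a ha => conj_mem_of_mem_normalizer (le_normalizer_resOf K hg) ha
  have idx : ∀ a ∈ P.map φ, ∀ b ∈ P.map φ, a ∈ F → b ∈ F → a ∉ A.map φ → b ∉ A.map φ → a * b ∈ A.map φ := by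
    rintro _ ⟨a, ha, rfl⟩ _ ⟨b, hb, rfl⟩ - - e1 e2
    exact ⟨_, (by decide +kernel : ∀ a ∈ P, a ∉ A → ∀ b ∈ P, b ∉ A → a * b ∈ A) a ha (fun e => e1 ⟨a, e, rfl⟩) b hb
      fun e => e2 ⟨b, e, rfl⟩, map_mul φ a b⟩
  have j0 : φ ⟪23⟫ ∉ F := fun e => by
    obtain ⟨g, g1, a, ha, g2⟩ := tr2 hP (mem_map_of_mem φ (by decide +kernel)) e (M := A.map φ)
      (fun ⟨a, ha, e⟩ => (by decide +kernel : ⟪23⟫ ∉ A) (su.eq e ▸ ha)) idx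
      (by rw [← map_mul, show ⟪23⟫ * ⟪23⟫ = 1 by decide +kernel, map_one])
    have hV : SylowIn 2 (V3.map φ) (K ⊓ centralizer {φ ⟪23⟫}) := su.syl (by decide +kernel)
      (map_le_iff_le_comap.2 fun a ha => by
        have := (by decide +kernel : ∀ a ∈ V3, a * ⟪30⟫ = ⟪30⟫ * a ∧ a * ⟪23⟫ = ⟪23⟫ * a) a ha
        exact ⟨mem_cen this.1, mem_cen this.2⟩) (by decide +kernel)
      (fun c c1 _ c3 => by
        rcases (by decide +kernel : ∀ c ∈ V3, c = 1 ∨ c = ⟪16⟫ ∨ ∃ k, k * ⟪30⟫ * k⁻¹ = c) c c1 with rfl | rfl | ⟨k, rfl⟩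
        exacts [absurd rfl (su.fz_sq c3).2, rfl, absurd c3.of_conj n30]) fun a h _ =>
      (by decide +kernel : ∀ a ∈ P, a * ⟪23⟫ = ⟪23⟫ * a → a ∈ V3) a (mP a h.1)
        (su.eq (by rw [map_mul, map_mul, mem_centralizer_singleton_iff.1 h.2]))
    have := hV.card_le (isPGroup_cj g⁻¹ (pgrp (P := A) (by decide +kernel))) (cj_le_iff.2 (by
      rintro _ ⟨b, hb, rfl⟩
      have hb' := (by decide +kernel : ∀ a ∈ A, ∀ b ∈ A, b * ⟪30⟫ = ⟪30⟫ * b ∧ b * a = a * b) a ha b hb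
      refine ⟨K.mul_mem (K.mul_mem (K.inv_mem g1) (mem_cen hb'.1)) (K.inv_mem (K.inv_mem g1)), mem_centralizer_singleton_iff.2 ?_⟩
      rw [show φ ⟪23⟫ = g⁻¹ * φ a * g⁻¹⁻¹ by rw [g2]; group, conj_mul, conj_mul, ← map_mul, hb'.2, map_mul]))
    rw [card_cj, card_map_of_injective su.inj, card_map_of_injective su.inj, card_sg, card_sg] at this
    exact absurd this (by decide +kernel)
  have i0 : ∀ p ∈ P, φ p ∈ F → p * p = 1 → p ∈ A := fun p p1 p2 p3 => by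
    refine ((by decide +kernel : ∀ p ∈ P, p * p = 1 → p ∈ A ∨ ∃ k ∈ P, k * p * k⁻¹ = ⟪23⟫) p p1 p3).resolve_right ?_
    rintro ⟨k, k1, k2⟩
    exact j0 (((Cj.of (φ := φ) k p).cast rfl k2) ▸ nF _ (PK (mem_map_of_mem φ k1)) _ p2)
  have PA : ∀ p ∈ P, φ p ∈ F → p ∈ A := fun p p1 p2 => by
    by_contra hc
    have p4 : φ p ^ 4 = 1 := by rw [← map_pow, (by decide +kernel : ∀ p ∈ P, p ^ 4 = 1) p p1, map_one]
    obtain ⟨g, -, a, ha, g2⟩ := tr hP (mem_map_of_mem φ p1) p2 (M := A.map φ) (fun ⟨a, ha, e⟩ => hc (su.eq e ▸ ha)) idx (n := 2) p4 (by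
      rintro _ ⟨m, rfl⟩ g ⟨q, q1, q2⟩ q3
      refine ⟨q, i0 q q1 (q2 ▸ q3) (su.eq ?_), q2⟩
      rw [map_mul, q2, conj_mul, ← pow_add, show m + m + (m + m) = 4 * m by ring, pow_mul, p4]; simp)
    refine hc (i0 p p1 p2 (su.eq ?_))
    rw [map_mul, map_one, ← conj_eq_one_iff (a := g), ← conj_mul, ← g2, ← map_mul,
      (by decide +kernel : ∀ a ∈ A, a * a = 1) a ha, map_one]
  have t0 : φ ⟪30⟫ ∉ F := fun e => by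
    have n : φ ⟪30⟫ ∉ E.map φ := fun ⟨a, ha, e⟩ => (by decide +kernel : ⟪30⟫ ∉ E) (su.eq e ▸ ha)
    obtain ⟨g, g1, g2⟩ := tr2 hP (mem_map_of_mem φ (by decide +kernel)) e n (by
      rintro _ ⟨a, ha, rfl⟩ _ ⟨b, hb, rfl⟩ a0 b0 e1 e2
      exact ⟨_, (by decide +kernel : ∀ a ∈ A, a ∉ E → ∀ b ∈ A, b ∉ E → a * b ∈ E) a (PA a ha a0) (fun e => e1 ⟨a, e, rfl⟩) b
        (PA b hb b0) fun e => e2 ⟨b, e, rfl⟩, map_mul φ a b⟩)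
      (by rw [← map_mul, show ⟪30⟫ * ⟪30⟫ = 1 by decide +kernel, map_one])
    rw [(mK g).1 g1, mul_inv_cancel_right] at g2
    exact n g2
  have vF : ∀ v ∈ [1, ⟪14⟫, ⟪62⟫, ⟪62⟫ * ⟪14⟫], φ v ∈ F := by
    simp only [List.forall_mem_cons, map_one, map_mul]
    exact ⟨one_mem _, v0, s0, mul_mem s0 v0, by simp⟩
  have jK : φ ⟪23⟫ ∈ K := mem_cen (by decide +kernel)
  have PF : ∀ p ∈ P, φ p ∈ F → p ∈ [1, ⟪14⟫, ⟪62⟫, ⟪62⟫ * ⟪14⟫] := fun p p1 p2 => by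
    rcases (by decide +kernel : ∀ p ∈ A, p ∈ [1, ⟪14⟫, ⟪62⟫, ⟪62⟫ * ⟪14⟫] ∨ ∃ v ∈ [1, ⟪14⟫, ⟪62⟫, ⟪62⟫ * ⟪14⟫], p * v = ⟪30⟫ ∨
      p * v * (⟪23⟫ * (p * v) * ⟪23⟫⁻¹) = ⟪30⟫) p (PA p p1 p2) with e | ⟨v, hv, e⟩
    · exact e
    have e5 : φ (p * v) ∈ F := map_mul φ p v ▸ mul_mem p2 (vF v hv)
    rcases e with e | e
    · exact absurd (e ▸ e5) t0
    · exact absurd (e ▸ map_mul φ _ _ ▸ mul_mem e5 (Cj.of (φ := φ) ⟪23⟫ _ ▸ nF _ jK _ e5)) t0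
  have cv : ∀ g ∈ K, g * φ ⟪14⟫ = φ ⟪14⟫ * g → ∃ h, φ h = g := fun g g1 g2 => su.cen g (by
    rw [show ⟪16⟫ = ⟪14⟫ * ⟪30⟫ by decide +kernel, map_mul, ← mul_assoc, g2, mul_assoc, (mK g).1 g1, mul_assoc])
  have zz : φ ⟪16⟫ * φ ⟪16⟫ = 1 := by rw [← map_mul, su.zz, map_one]
  have z1 : φ ⟪16⟫ ≠ 1 := fun e => su.z1 (su.eq (e.trans (map_one φ).symm))
  have top : ∀ B : Subgroup G, (∀ h, φ h ∈ B) → y ∈ B → w ∈ B → F ≤ B → B = ⊤ := fun B b1 b2 b3 b4 =>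
    gen_top (sylT su) (map_le_iff_le_comap.2 fun a _ => b1 a) zz
      (by rw [← map_mul, show ⟪30⟫ * ⟪30⟫ = 1 by decide +kernel, map_one]) n30
      (fun g hg => by obtain ⟨h, rfl⟩ := su.cen g hg; exact b1 h)
      (fun g hg => (hP.resOf_sup.ge.trans (sup_le b4 (map_le_iff_le_comap.2 fun a _ => b1 a))) ((mK g).2 hg))
      (by
        rintro _ ⟨p, -, rfl⟩ e1 e2
        have k : ∀ (k p q : HA) g, g ∈ B → Cj φ g p q → ∃ g ∈ B, Cj φ g (k * p * k⁻¹) q := fun k p q g g1 g2 =>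
          ⟨_, mul_mem g1 (inv_mem (b1 k)), (Cj.of k p).symm.comp g2⟩
        rcases cls p (su.eq (by rw [map_mul, e1, map_one])) with rfl | rfl | ⟨l, rfl | rfl | rfl | rfl | rfl⟩
        · exact absurd (map_one φ) e2
        · exact ⟨1, one_mem _, Or.inl Cj.id⟩
        · exact (k l _ _ _ (inv_mem b2) h.y3.yz.symm).imp fun g h => ⟨h.1, Or.inl h.2⟩
        · exact (k l _ _ _ (inv_mem b3) h'.y3.yz.symm).imp fun g h => ⟨h.1, Or.inl h.2⟩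
        · exact (k l _ _ _ (one_mem _) Cj.id).imp fun g h => ⟨h.1, Or.inr h.2⟩
        · exact (k l _ _ _ (mul_mem (inv_mem b3) (inv_mem b2)) (h.b.symm.comp h'.y3.yz.symm)).imp fun g h => ⟨h.1, Or.inl h.2⟩
        · exact (k l _ _ _ (mul_mem (inv_mem (b1 _)) (mul_mem (inv_mem (mul_mem b2 b3)) (inv_mem (mul_mem b2 b3))))
            (((ys'.symm.cast (by decide +kernel) rfl).comp yv.symm).comp ((Cj.of ⟪1⟫ ⟪30⟫).symm.cast (by decide +kernel) rfl))).imp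
            fun g h => ⟨h.1, Or.inr h.2⟩) z1
  refine (klein_sub v0 y0 vv v1 sv yv ys fun g g1 g2 => ?_).imp (fun hn => ?_) fun h5 => ?_
  · obtain ⟨h, rfl⟩ := cv g (resOf_le K g1) g2
    have := PF h (mP h (resOf_le K g1)) g1
    simp only [List.mem_cons, List.not_mem_nil, or_false] at this
    rcases this with rfl | rfl | rfl | rfl <;> simp
  · obtain ⟨B, b1, b2, b3, ⟨e⟩⟩ := h8.rec8 z1
    refine ⟨((MulEquiv.subgroupCongr (top B b1 b2 b3 fun g hg => ?_)).trans topEquiv).symm.trans e⟩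
    have k : ∀ u ∈ B, u ∈ K → u * φ ⟪14⟫ * u⁻¹ = g * φ ⟪14⟫ * g⁻¹ → g ∈ B := fun u u1 u2 u3 => by
      obtain ⟨h, hh⟩ := cv (u⁻¹ * g) (mul_mem (inv_mem u2) (resOf_le K hg)) (by
        calc _ = u⁻¹ * (g * φ ⟪14⟫ * g⁻¹) * g := by group
          _ = _ := by rw [← u3]; group)
      exact (B.mul_mem_cancel_left (inv_mem u1)).1 (hh ▸ b1 h)
    rcases hn g hg with e | e | e
    · exact k 1 (one_mem _) (one_mem _) (by rw [e]; group)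
    · exact k _ (mul_mem b2 b3) yK (yv.trans e.symm)
    · exact k _ (mul_mem (mul_mem b2 b3) (mul_mem b2 b3)) (mul_mem yK yK) (((yv.comp ys').trans (map_mul _ _ _)).trans e.symm)
  have jv : φ ⟪23⟫ * φ ⟪14⟫ * (φ ⟪23⟫)⁻¹ = φ ⟪14⟫ := (Cj.of _ _).cast rfl (by decide +kernel)
  obtain ⟨k, k0, kk, ky, kz, kj, hB, hx⟩ := a5_ext h5 v0 y0 vv v1 yv ys y3 (le_normalizer_resOf K jK) jv (by
    have i1 := h.y3.inv (by decide +kernel)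
    have i2 := h'.y3.inv (by decide +kernel)
    have c1 : φ ⟪10⟫ * y * (φ ⟪10⟫)⁻¹ = y := mul_inv_eq_iff_eq_mul.2 h.a.comm.symm
    have c2 : φ ⟪13⟫ * w * (φ ⟪13⟫)⁻¹ = w := mul_inv_eq_iff_eq_mul.2 h'.a.comm.symm
    rw [show ⟪23⟫ = ⟪10⟫ * ⟪13⟫ by decide +kernel, map_mul, show φ ⟪10⟫ * φ ⟪13⟫ * (y * w) * (φ ⟪10⟫ * φ ⟪13⟫)⁻¹ =
      φ ⟪10⟫ * (φ ⟪13⟫ * (y * w) * (φ ⟪13⟫)⁻¹) * (φ ⟪10⟫)⁻¹ by group, ← conj_mul (a := y), i1, c2, ← conj_mul, ← conj_inv, c1, i2,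
      e, mul_inv_rev])
  have kK := (mK k).1 (resOf_le K k0)
  have u1 : k * φ ⟪14⟫ * φ ⟪30⟫ = φ ⟪30⟫ * (k * φ ⟪14⟫) := (mK _).1 (resOf_le K (mul_mem k0 v0))
  have u2 : k * φ ⟪14⟫ * φ ⟪23⟫ = φ ⟪23⟫ * (k * φ ⟪14⟫) := (mul_inv_eq_iff_eq_mul.1 (by rw [← conj_mul, kj, jv])).symm
  have u3 : ∀ p q, k * φ ⟪14⟫ * φ p = φ p * (k * φ ⟪14⟫) → ⟪69⟫ * p * ⟪69⟫⁻¹ = q →
      φ q * (φ ⟪69⟫ * (k * φ ⟪14⟫) * (φ ⟪69⟫)⁻¹) * (φ q)⁻¹ = φ ⟪69⟫ * (k * φ ⟪14⟫) * (φ ⟪69⟫)⁻¹ := by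
    rintro p _ h rfl
    rw [← Cj.of ⟪69⟫ p, conj_mul, ← h]; group
  have u4 := hx (φ ⟪69⟫) (by rw [← map_mul, ← map_mul, show ⟪69⟫ * ⟪69⟫ * ⟪69⟫ = 1 by decide +kernel, map_one])
    (mem_resOf ((mK _).2 (mul_inv_eq_iff_eq_mul.1 (u3 (⟪30⟫ * ⟪23⟫) _ (by
      rw [map_mul, ← mul_assoc, u1, mul_assoc, u2, mul_assoc]) (by decide +kernel))).symm) (Nat.Coprime.coprime_dvd_left
      (orderOf_dvd_of_pow_eq_one (n := 3) (by rw [pow_three', conj_mul, conj_mul, kz]; group)) (by norm_num)))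
    (by
      have e : φ ⟪69⟫ * φ (⟪14⟫ * ⟪23⟫) * (φ ⟪69⟫)⁻¹ = φ ⟪14⟫ := (Cj.of _ _).cast rfl (by decide +kernel)
      have e2 : φ ⟪14⟫ * (φ ⟪69⟫ * (k * φ ⟪14⟫) * (φ ⟪69⟫)⁻¹) =
          φ ⟪69⟫ * (φ (⟪14⟫ * ⟪23⟫) * (k * φ ⟪14⟫)) * (φ ⟪69⟫)⁻¹ := by rw [← conj_mul (a := φ (⟪14⟫ * ⟪23⟫)), e]
      have e3 : φ ⟪23⟫ * φ ⟪23⟫ = 1 := by rw [← map_mul, show ⟪23⟫ * ⟪23⟫ = 1 by decide +kernel, map_one]
      have e4 : φ (⟪14⟫ * ⟪23⟫) * (k * φ ⟪14⟫) = φ ⟪14⟫ * k * φ ⟪14⟫ * φ ⟪23⟫ := by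
        rw [map_mul, mul_assoc, ← u2]; group
      rw [e2, conj_mul, conj_eq_one_iff]
      nth_rewrite 1 [e4]
      rw [map_mul, ← mul_inv_eq_iff_eq_mul.1 jv]
      simp only [mul_assoc]
      rw [← mul_assoc (φ ⟪23⟫), e3, one_mul, ← mul_assoc (φ ⟪14⟫) (φ ⟪14⟫), vv, one_mul, ← mul_assoc k, kk, one_mul, vv])
    (u3 _ _ u1 (by decide +kernel))
  obtain ⟨B, b1, b2, b3, b4, ⟨e⟩⟩ := h8.rec9 z1 kk ky (Cj.of_comm (mul_inv_eq_iff_eq_mul.1 kj).symm) kz (Cj.of_comm kK) u4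
  exact ⟨((MulEquiv.subgroupCongr (top B b1 b2 b3 (hB B (b1 _) (mul_mem b2 b3) b4))).trans topEquiv).symm.trans e⟩

theorem beta : ∃ β : HA →* HA, Function.Injective β ∧ β ⟪16⟫ = ⟪16⟫ ∧ β ⟪5⟫ = ⟪5⟫ ∧ β ⟪13⟫ = ⟪13⟫ ∧ β ⟪11⟫ = ⟪11⟫ ∧
    β ⟪10⟫ = ⟪10⟫ ∧ β ⟪32⟫ = ⟪48⟫ ∧ β ⟪43⟫ = ⟪59⟫ := by
  obtain ⟨β, h⟩ := exists_homA (a := ⟪1⟫) (b := ⟪2⟫) (c := ⟪4⟫) (d := ⟪8⟫) (x := ⟪64⟫) (t := ⟪48⟫) (by decide +kernel)
    (by decide +kernel) (by decide +kernel) (by decide +kernel) (by decide +kernel)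
  refine ⟨β, HA.inj ?_, ?_⟩ <;> simp only [eval β h] <;> decide +kernel

theorem sigma : ∃ σ : HA →* HA, Function.Injective σ ∧ σ ⟪16⟫ = ⟪16⟫ ∧ σ ⟪5⟫ = ⟪11⟫ ∧ σ ⟪11⟫ = ⟪14⟫ ∧ σ ⟪30⟫ = ⟪21⟫ ∧
    σ ⟪14⟫ = ⟪5⟫ ∧ σ ⟪21⟫ = ⟪27⟫ := by
  obtain ⟨β, h⟩ := exists_homA (a := ⟪3⟫) (b := ⟪1⟫) (c := ⟪8⟫) (d := ⟪12⟫) (x := ⟪64⟫) (t := ⟪32⟫) (by decide +kernel)
    (by decide +kernel) (by decide +kernel) (by decide +kernel) (by decide +kernel)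
  refine ⟨β, HA.inj ?_, ?_⟩ <;> simp only [eval β h] <;> decide +kernel

theorem two (su : Su φ ⟪16⟫) (h5 : Fz φ ⟪16⟫ ⟪5⟫) (h11 : Fz φ ⟪16⟫ ⟪11⟫) :
    Nonempty (G ≃* alternatingGroup (Fin 8)) ∨ Nonempty (G ≃* alternatingGroup (Fin 9)) := by
  have k0 : ∀ {φ : HA →* G} {y}, Su φ ⟪16⟫ → S1 φ y → Fz φ ⟪16⟫ ⟪11⟫ →
      Nonempty (G ≃* alternatingGroup (Fin 8)) ∨ Nonempty (G ≃* alternatingGroup (Fin 9)) := fun su h h11 => by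
    obtain ⟨w, hw⟩ := exS2 su h h11
    obtain ⟨y, hy, e⟩ := exists_comm su h hw
    exact std su hy hw e
  have k1 : ∀ {y}, Y3 φ ⟪16⟫ ⟪5⟫ ⟪13⟫ y → Cj φ y ⟪10⟫ ⟪10⟫ → Cj φ y ⟪11⟫ ⟪48⟫ → Cj φ y ⟪32⟫ ⟪46⟫ →
      Nonempty (G ≃* alternatingGroup (Fin 8)) ∨ Nonempty (G ≃* alternatingGroup (Fin 9)) :=
    fun {y} hy a2 b2 c2 => by
      obtain ⟨β, hβ, e1, e2, e3, e4, e5, e6, e7⟩ := beta
      refine k0 (su.comp hβ e1) (y := y) ⟨⟨hy.y3, ?_, ?_, ?_⟩, ?_, ?_, ?_⟩ ?_ <;>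
        simp only [Fz, Cj.comp_iff, MonoidHom.comp_apply, map_mul β, e1, e2, e3, e4, e5, e6, e7]
      exacts [hy.jy, hy.yz, hy.ys, a2, b2, (c2.mul hy.yz).cast (by decide +kernel) (by decide +kernel), h11]
  obtain ⟨y, hy, a, b, c, e, h1, h2, h3⟩ := ex1 su h5
  have hy' := hy.conj (k := ⟪11⟫) (by decide +kernel) (by decide +kernel) (by decide +kernel)
  have k2 := fun h e => (Cj.rho (cd := cd1) (h := h) h1 h2 h3 (hcd1.2 h e)).conj ⟪11⟫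
  rcases e with ⟨rfl | rfl, ⟨rfl, rfl⟩ | ⟨rfl, rfl⟩⟩
  · exact k0 su ⟨hy, h1, h2, h3⟩ h11
  · exact k1 hy h1 h2 h3
  · exact k0 su ⟨hy', (k2 ⟪26⟫ (by decide +kernel)).cast (by decide +kernel) (by decide +kernel),
      (k2 ⟪11⟫ (by decide +kernel)).cast (by decide +kernel) (by decide +kernel),
      (k2 ⟪32⟫ (by decide +kernel)).cast (by decide +kernel) (by decide +kernel)⟩ h11
  · exact k1 hy' ((k2 ⟪26⟫ (by decide +kernel)).cast (by decide +kernel) (by decide +kernel))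
      ((k2 ⟪11⟫ (by decide +kernel)).cast (by decide +kernel) (by decide +kernel))
      ((k2 ⟪32⟫ (by decide +kernel)).cast (by decide +kernel) (by decide +kernel))

theorem main (su : Su φ ⟪16⟫) {q : HA} (h1 : q.1 < 32) (h2 : q ≠ ⟪16⟫) (h3 : Fz φ ⟪16⟫ q) :
    NV G ∨ Nonempty (G ≃* alternatingGroup (Fin 8)) ∨ Nonempty (G ≃* alternatingGroup (Fin 9)) := by
  obtain ⟨σ, hσ, e1, e2, e3, e4, e5, e6⟩ := sigma
  have su1 := su.comp hσ e1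
  have su2 := su1.comp hσ e1
  have c : ∀ {p q : HA}, (∃ k, k * p * k⁻¹ = q) → (Fz φ ⟪16⟫ q ↔ Fz φ ⟪16⟫ p) := by
    rintro p _ ⟨k, rfl⟩; exact ⟨Fz.of_conj, fun h => h.conj k⟩
  have a1 : ∀ p, Fz (φ.comp σ) ⟪16⟫ p ↔ Fz φ ⟪16⟫ (σ p) := fun p => by simp only [Fz, MonoidHom.comp_apply, e1]
  have a2 : ∀ p, Fz ((φ.comp σ).comp σ) ⟪16⟫ p ↔ Fz φ ⟪16⟫ (σ (σ p)) := fun p => by simp only [Fz, MonoidHom.comp_apply, e1]
  have b1 := a1 ⟪5⟫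
  have b2 := a1 ⟪11⟫
  have b3 := a1 ⟪30⟫
  have c1 := a2 ⟪5⟫
  have c2 := a2 ⟪11⟫
  have c3 := a2 ⟪30⟫
  rw [e2] at b1
  rw [e3, c (p := ⟪30⟫) (q := ⟪14⟫) (by decide +kernel)] at b2
  rw [e4, c (p := ⟪5⟫) (q := ⟪21⟫) (by decide +kernel)] at b3
  rw [e2, e3, c (p := ⟪30⟫) (q := ⟪14⟫) (by decide +kernel)] at c1
  rw [e3, e5] at c2
  rw [e4, e6, c (p := ⟪11⟫) (q := ⟪27⟫) (by decide +kernel)] at c3
  by_cases f1 : Fz φ ⟪16⟫ ⟪5⟫ <;> by_cases f2 : Fz φ ⟪16⟫ ⟪11⟫ <;> by_cases f3 : Fz φ ⟪16⟫ ⟪30⟫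
  · exact Or.inr (two su f1 f2)
  · exact Or.inr (two su f1 f2)
  · exact Or.inr (two su2 (c1.2 f3) (c2.2 f1))
  · exact Or.inl (one su f1 f2 f3)
  · exact Or.inr (two su1 (b1.2 f2) (b2.2 f3))
  · exact Or.inl (one su1 (b1.2 f2) (mt b2.1 f3) (mt b3.1 f1))
  · exact Or.inl (one su2 (c1.2 f3) (mt c2.1 f1) (mt c3.1 f2))
  · rcases (by decide +kernel : ∀ q : HA, q.1 < 32 → q * q = 1 → q = 1 ∨ q = ⟪16⟫ ∨ ∃ k, k * ⟪5⟫ * k⁻¹ = q ∨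
      k * ⟪11⟫ * k⁻¹ = q ∨ k * ⟪30⟫ * k⁻¹ = q) q h1 (su.fz_sq h3).1 with e | e | ⟨k, rfl | rfl | rfl⟩
    exacts [absurd e (su.fz_sq h3).2, absurd e h2, absurd h3.of_conj f1, absurd h3.of_conj f2, absurd h3.of_conj f3]

end HA

end Cfsg.Lib.X32
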