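import Cfsg.Agent.Lib.X32.CaseB
import Cfsg.Agent.Lib.Comp.Cen2
import Cfsg.Agent.Lib.Block.ZStar

/-!
# The centraliser of a `2`-central involution of `M₁₂`
-/

set_option maxRecDepth 100000
set_option synthInstance.maxSize 100000
set_option Elab.async false

namespace Cfsg.Lib.X32

open Subgroup Cfsg.Lib.Transfer Cfsg.Lib.Invol Cfsg.Lib.Comp

universe u

local notation "⟪" n "⟫" => HB.el n

theorem Su.equiv {G Γ : Type*} [Group G] [Group Γ] {M : Type} [Group M] {φ : M →* G} {z : M} (su : Su φ z) (e : G ≃* Γ) :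
    Su (e.toMonoidHom.comp φ) z :=
  ⟨e.injective.comp su.inj, fun g hg => by
    obtain ⟨g, rfl⟩ := e.surjective g
    obtain ⟨h, rfl⟩ := su.cen g (e.injective (by simpa using hg))
    exact ⟨h, rfl⟩, su.zc, su.zz, su.z1⟩

theorem m12_model : ∃ ψ : HB →* Spor.M12, Su ψ ⟪16⟫ := by
  obtain ⟨f, hf⟩ := hom_of_top (γ := HB.gn) (δ := fun x => if x < 12 then gp X12.nets x else 1) XB.ord
    (by unfold IvOK; decide +kernel) (by unfold Rels; decide +kernel)
    ⟨X12.nets_iv.1, fun x hx => by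
      obtain ⟨h1, h2, h3⟩ := (by decide +kernel : ∀ x < 64, XB.iv x < 64 ∧ (x < 12 → XB.iv x = X12.iv x ∧ XB.iv x < 12) ∧
        (¬ x < 12 → XB.iv x = x)) x hx
      refine ⟨h1, ?_⟩
      dsimp only
      by_cases h : x < 12
      · rw [if_pos h, if_pos (h2 h).2, (h2 h).1, (X12.nets_iv.2 x hx).2]
      · rw [h3 h, if_neg h, inv_one]⟩
    (fun r hr => by
      obtain ⟨h1, h2⟩ := (by decide +kernel : ∀ r ∈ XB.R, r ∈ X12.R ∧ ∀ x ∈ r.1, x < 12) r hr
      rw [← X12.nets_rel r h1, ev, ev, List.map_congr_left fun x hx => if_pos (h2 x hx)])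
    HB.card (by decide +kernel) fun p => ⟨_, HB.evc_wd p⟩
  have mem : ∀ h, f h ∈ cl (gp X12.nets) X12.L := fun h => by
    rw [← HB.evc_wd h]
    refine mem_comap.1 (ev_evc (fun x hx => mem_comap.2 ?_) _ _)
    rcases (by decide +kernel : ∀ x < 16, HB.gn x = 1 ∨ x ∈ XB.L ∧ x ∈ X12.L ∧ x < 12) x hx with e | e
    · rw [e, map_one]; exact one_mem _
    · rw [hf x e.1, if_pos e.2.2]; exact mem_cl e.2.1
  have fz : f ⟪16⟫ = ev (gp X12.nets) [1, 1] := by
    rw [show ⟪16⟫ = HB.gn 1 * HB.gn 1 by decide +kernel, map_mul, hf 1 (by decide)]; simp [ev]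
  let g : cl (gp X12.nets) X12.L := ⟨ev (gp X12.nets) [10, 13, 10, 12], ev_mem fun x hx => mem_cl (by revert x; decide)⟩
  let ψ := (MulAut.conj g).toMonoidHom.comp (f.codRestrict _ mem)
  have e1 : (ψ ⟪16⟫ : Equiv.Perm ℕ) = ev (gp X12.nets) ([10, 13, 10, 12] ++ [1, 1] ++ [13, 9, 12, 9]) := by
    have := rels_of_relsB (k := 5) X12.nets_ok (by norm_num) (R := [([10, 13, 10, 12] ++ [13, 9, 12, 9], 0)])
      (by decide +kernel) _ List.mem_cons_self
    rw [zero_add, pow_one, ev_append] at this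
    rw [ev_append, ev_append, ← fz, ← inv_eq_of_mul_eq_one_right this]; rfl
  have hi : Function.Injective ψ := HB.inj fun e => by
    have := wap_eq (tbA_pt X12.nets_ok) ([10, 13, 10, 12] ++ [1, 1] ++ [13, 9, 12, 9]) 0
    rw [← e1, e] at this
    exact absurd this (by decide +kernel)
  have zc : ∀ h : HB, h * ⟪16⟫ = ⟪16⟫ * h := by decide +kernel
  have := X12.nets_ok.finite X12.L
  have hc : Nat.card (centralizer {ψ ⟪16⟫}) ≤ 192 := by
    obtain ⟨e⟩ := cen_iso (cl (gp X12.nets) X12.L).subtype_injective (z := ψ ⟪16⟫)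
    rw [Nat.card_congr e.toEquiv, range_subtype, subtype_apply, e1, ← cl_eq_of_slpB X12.nets_ok (by norm_num) X12.slp_ok]
    exact (card_cen_le2 X12.nets_ok (tbA_pt X12.nets_ok) _ (exact_of_beq
      (C := [([64,65,66,67,68,69,70,71,72,73,74,75,76,77],[1,3,12,5,1],0,0,12),
        ([67,68,69,70,71,72,73,74,75,76,77],[64,64,67,71,67,64],12,12,12), ([71,72,73,74,75,76,77],[67,69,67,73,69],1,1,11),
        ([75,76,77],[71,71,73,75,71],2,2,10), ([],[75,77,75],3,3,6)]) (n := 95040)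
      (by rw [cl_eq_of_slpB X12.nets_ok (by norm_num) X12.slp_ok, X12.card]) (by decide +kernel))).trans (by decide +kernel)
  obtain ⟨e⟩ := X12.perm
  refine ⟨_, Su.equiv ⟨hi, fun g hg => ?_, zc, by decide +kernel, by decide +kernel⟩ e.symm⟩
  exact (eq_of_le_of_card_ge (H := ψ.range) (by rintro _ ⟨h, rfl⟩; exact mem_cen (zc h))
    (by rwa [← Nat.card_congr (MonoidHom.ofInjective hi).toEquiv, HB.card])).ge (mem_centralizer_singleton_iff.2 hg)

theorem m12_cent {u : Spor.M12} (hu : IsTwoCentralInvolution u) : ∃ ψ : HB →* Spor.M12, Su ψ ⟪16⟫ ∧ ψ ⟪16⟫ = u := by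
  have := Fact.mk Nat.prime_two
  obtain ⟨ψ, su⟩ := m12_model
  obtain ⟨h1, P, h2, h3⟩ := hu
  obtain ⟨g, -, hg⟩ := (HB.sylT su).exists_cj_eq (sylowIn_top P)
  obtain ⟨p, p1, p2⟩ := mem_cj.1 (hg.ge h2)
  refine ⟨_, su.equiv (MulAut.conj g), ?_⟩
  rcases (by decide +kernel : ∀ c ∈ HB.T, (∀ a ∈ HB.T, a * c = c * a) → c = 1 ∨ c = ⟪16⟫) p p1 fun a ha => su.eq (by
    have := h3 _ (hg.le (conj_mem_cj.2 (mem_map_of_mem ψ ha)))
    rw [map_mul, map_mul, p2]
    calc _ = g⁻¹ * (g * ψ a * g⁻¹ * u) * g := by group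
      _ = _ := by rw [this]; group) with rfl | rfl
  · rw [map_one, eq_comm, ← inv_inv g, inv_inv g⁻¹, conj_eq_one_iff] at p2
    exact absurd p2 (ne_one_of_two h1)
  · change g * ψ _ * g⁻¹ = u
    rw [p2]; group

theorem HB.simple {G : Type u} [Group G] [Finite G] [IsSimpleGroup G] (hG : ¬ IsMulCommutative G) {φ : HB →* G}
    (su : Su φ ⟪16⟫) : Spor.IsoM12 G := by
  have z1 : φ ⟪16⟫ ≠ 1 := fun e => su.z1 (su.eq (e.trans (map_one φ).symm))
  obtain ⟨q, q1, q2, q3⟩ : ∃ q : HB, q.1 < 32 ∧ q ≠ ⟪16⟫ ∧ Fz φ ⟪16⟫ q := by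
    by_contra hc
    push Not at hc
    have hz := Block.z_star_center (Exc.oddCore_eq_bot hG) (u := φ ⟪16⟫) ⟨orderOf_eq_prime (by
      rw [pow_two, ← map_mul, su.zz, map_one]) z1, fun g hg => by
        obtain ⟨h, hh⟩ := su.cen _ hg.symm
        have f : Fz φ ⟪16⟫ h := isConj_iff.2 ⟨g, hh.symm⟩
        rcases HB.cls h (su.fz_sq f).1 with rfl | rfl | ⟨k, rfl | rfl | rfl⟩
        · exact absurd rfl (su.fz_sq f).2
        · exact hh.symm
        · exact absurd f.of_conj (hc _ (by decide) (by decide))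
        · exact absurd f.of_conj (hc _ (by decide) (by decide))
        obtain ⟨g, hg⟩ := isConj_iff.1 (Fz.of_conj f)
        have k : ∀ p : HB, p.1 < 32 → p ≠ ⟪16⟫ → In ⟪32⟫ p → ∃ q : HB, q.1 < 32 ∧ Cj φ g q p := fun p p1 p2 p3 => by
          obtain ⟨a, ha⟩ := su.cen (g⁻¹ * φ p * g) (by
            have := congrArg φ p3.1
            rw [map_mul, map_mul, ← hg] at this
            calc _ = g⁻¹ * (φ p * (g * φ ⟪16⟫ * g⁻¹)) * g := by group
              _ = _ := by rw [this]; group)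
          have e : Cj φ g a p := by rw [Cj, ha]; group
          refine ⟨a, ((by decide +kernel : ∀ a : HB, a * a = 1 → a.1 < 32 ∨ ∃ k, k * ⟪32⟫ * k⁻¹ = a) a
            (((e.mul e).cast rfl p3.2).symm.uniq su.inj Cj.one)).resolve_right ?_, e⟩
          rintro ⟨l, rfl⟩
          exact hc p p1 p2 (((Fz.of_conj f).conj l).cj e)
        obtain ⟨a, a1, a2⟩ := k ⟪5⟫ (by decide) (by decide) (by decide +kernel)
        obtain ⟨b, b1, b2⟩ := k ⟪21⟫ (by decide) (by decide) (by decide +kernel)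
        have e := (a2.mul b2).cast rfl (show _ = ⟪16⟫ by decide +kernel)
        refine absurd (Fz.refl.cj e.symm) (hc _ (by revert a1 b1; generalize a = a; generalize b = b; revert a b; decide +kernel)
          fun e' => ?_)
        exact absurd ((e.cast e' rfl).uniq su.inj hg) (by decide)⟩
    refine hG ⟨⟨fun a b => ?_⟩⟩
    have := (IsSimpleGroup.eq_bot_or_eq_top_of_normal (center G) inferInstance).resolve_left fun e => z1 (mem_bot.1 (e ▸ hz))
    exact mem_center_iff.1 (this.ge (mem_top b)) a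
  refine (HB.main su q1 q2 q3).resolve_left ?_
  rintro ⟨N, hn, h1, -, h2, -⟩
  rcases hn.eq_bot_or_eq_top with rfl | rfl
  · simp at h2
  · exact hG ⟨⟨fun a b => congrArg Subtype.val (h1.1.1 ⟨a, trivial⟩ ⟨b, trivial⟩)⟩⟩

end Cfsg.Lib.X32
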