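import Mathlib.Algebra.Group.MinimalAxioms
import Mathlib.Tactic

/-!
# Evaluation of coded words
-/

namespace Cfsg.Lib.X32

/-- Evaluate the first `n` hexadecimal digits of `c` as a word. -/
def evc {Γ : Type*} [Mul Γ] [One Γ] (g : ℕ → Γ) (n : ℕ) : ℕ → Γ :=
  Nat.rec (motive := fun _ => ℕ → Γ) (fun _ => 1) (fun _ ih c => g (Nat.mod c 16) * ih (Nat.div c 16)) n

theorem evc_succ {Γ : Type*} [Mul Γ] [One Γ] (g : ℕ → Γ) (n c : ℕ) :
    evc g (n + 1) c = g (c % 16) * evc g n (c / 16) := rfl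

theorem evc_rel {Γ Δ : Type*} [Mul Γ] [One Γ] [Mul Δ] [One Δ] {g : ℕ → Γ} {g' : ℕ → Δ} (r : Γ → Δ → Prop)
    (h1 : r 1 1) (hm : ∀ a b c d, r a b → r c d → r (a * c) (b * d)) (h : ∀ x < 16, r (g x) (g' x)) (n c : ℕ) :
    r (evc g n c) (evc g' n c) := by
  induction n generalizing c with
  | zero => exact h1
  | succ n ih => exact hm _ _ _ _ (h _ (Nat.mod_lt _ (by norm_num))) (ih _)

theorem map_evc {Γ Δ : Type*} [Monoid Γ] [Monoid Δ] (f : Γ →* Δ) {g : ℕ → Γ} {g' : ℕ → Δ}
    (h : ∀ x < 16, f (g x) = g' x) (n c : ℕ) : f (evc g n c) = evc g' n c :=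
  evc_rel (fun a b => f a = b) f.map_one (fun _ _ _ _ e e' => by rw [map_mul, e, e']) h n c

/-- Bounded conjunction. -/
def alN (n : ℕ) (f : ℕ → Bool) : Bool :=
  Nat.rec (motive := fun _ => Bool) true (fun m ih => Bool.rec (motive := fun _ => Bool) false ih (f m)) n

/-- Bounded disjunction. -/
def exN (n : ℕ) (f : ℕ → Bool) : Bool :=
  Nat.rec (motive := fun _ => Bool) false (fun m ih => Bool.rec (motive := fun _ => Bool) ih true (f m)) n

theorem alN_iff {n : ℕ} {f : ℕ → Bool} : alN n f = true ↔ ∀ i < n, f i = true := by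
  induction n with
  | zero => simp [alN]
  | succ n ih =>
    have e : alN (n + 1) f = Bool.rec (motive := fun _ => Bool) false (alN n f) (f n) := rfl
    rw [e, Nat.forall_lt_succ_right, ← ih]
    cases f n <;> simp

theorem exN_iff {n : ℕ} {f : ℕ → Bool} : exN n f = true ↔ ∃ i < n, f i = true := by
  induction n with
  | zero => simp [exN]
  | succ n ih =>
    have e : exN (n + 1) f = Bool.rec (motive := fun _ => Bool) (exN n f) true (f n) := rfl
    rw [e, Nat.exists_lt_succ_right, ← ih]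
    cases f n <;> simp

/-- Fast decision of a universal statement over an enumerated type. -/
def decAll {α : Type} (n : ℕ) (e : ℕ → α) (h : ∀ a, ∃ i < n, e i = a) (p : α → Prop) [DecidablePred p] :
    Decidable (∀ a, p a) :=
  decidable_of_iff (alN n (fun i => decide (p (e i))) = true) (by
    rw [alN_iff]
    refine ⟨fun k a => ?_, fun k i _ => decide_eq_true (k _)⟩
    obtain ⟨i, hi, rfl⟩ := h a
    exact of_decide_eq_true (k i hi))

/-- Fast decision of an existential statement over an enumerated type. -/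
def decEx {α : Type} (n : ℕ) (e : ℕ → α) (h : ∀ a, ∃ i < n, e i = a) (p : α → Prop) [DecidablePred p] :
    Decidable (∃ a, p a) :=
  decidable_of_iff (exN n (fun i => decide (p (e i))) = true) (by
    rw [exN_iff]
    refine ⟨fun ⟨i, _, k⟩ => ⟨_, of_decide_eq_true k⟩, fun ⟨a, k⟩ => ?_⟩
    obtain ⟨i, hi, rfl⟩ := h a
    exact ⟨i, hi, decide_eq_true k⟩)

end Cfsg.Lib.X32
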