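import Cfsg.Agent.Lib.X32.CaseA2
import Cfsg.Agent.Lib.Known2.ES

/-!
# Identification of the centraliser
-/

set_option maxRecDepth 100000
set_option synthInstance.maxSize 100000
set_option Elab.async false

namespace Cfsg.Lib.X32

open Subgroup Cfsg.Lib.Transfer Cfsg.Lib.Invol Cfsg.Lib.Known2

universe u

variable {G : Type u} [Group G] {Q : Subgroup G} {z x : G}

theorem RN.of_map {M Γ : Type*} [Group M] [Group Γ] {f : M →* Γ} (hf : Function.Injective f) {a b c d x : M}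
    (h : RN (f a) (f b) (f c) (f d) (f x)) : RN a b c d x := by
  simpa only [RN, ← map_mul, ← map_inv, map_eq_one_iff f hf, hf.eq_iff] using h

theorem lt_rel {M N : Type*} [Group M] [Group N] {a b c d x t : M} {a' b' c' d' x' t' : N} (R : M → N → Prop) (h : R 1 1)
    (hi : ∀ p q, R p q → R p⁻¹ q⁻¹) (h1 : R a a') (h2 : R b b') (h3 : R c c') (h4 : R d d') (h5 : R x x') (h6 : R t t') (n : ℕ) :
    R (lt a b c d x t n) (lt a' b' c' d' x' t' n) := by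
  rcases n with _ | _ | _ | _ | _ | _ | _ | _ | _ | _ | _ | _ | n <;> simp [lt, *]

/-- An element of order three acting without fixed points on `Q/Z(Q)`. -/
structure FP (Q : Subgroup G) (z x : G) : Prop where
  es : ES Q z
  x3 : x * x * x = 1
  xz : x * z * x⁻¹ = z
  xn : ∀ q ∈ Q, x * q * x⁻¹ ∈ Q
  fx : ∀ q ∈ Q, x * q * x⁻¹ = q → q = 1 ∨ q = z

namespace FP

variable (h : FP Q z x)
include h

theorem tri {a : G} (ha : a ∈ Q) : x * (x * a * x⁻¹) * x⁻¹ = a * (x * a * x⁻¹) ∨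
    x * (x * a * x⁻¹) * x⁻¹ = a * (x * a * x⁻¹) * z := by
  have hb := h.xn a ha
  have hc := h.xn _ hb
  have e : x * (x * (x * a * x⁻¹) * x⁻¹) * x⁻¹ = a := by
    rw [show x * (x * (x * a * x⁻¹) * x⁻¹) * x⁻¹ = x * x * x * a * (x * x * x)⁻¹ by group, h.x3]; group
  set b := x * a * x⁻¹
  set c := x * b * x⁻¹
  have e1 : x * (a * (b * c)) * x⁻¹ = b * c * a := by rw [← conj_mul (a := a), ← conj_mul (a := b), e, mul_assoc b]
  have e2 : x * (a * (b * c)) * x⁻¹ = a * (b * c) := by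
    rcases h.es.comm _ (mul_mem hb hc) a ha with e2 | e2
    · rw [e1, e2]
    · rw [e2] at e1
      set w := a * (b * c)
      have e3 : w = w * z := by
        calc w = x * x * x * w * (x * x * x)⁻¹ := by rw [h.x3]; group
          _ = x * (x * (x * w * x⁻¹) * x⁻¹) * x⁻¹ := by group
          _ = _ := by rw [e1, ← conj_mul (a := w), e1, h.xz, mul_assoc w, h.es.sq, mul_one, e1]
      exact absurd (left_eq_mul.1 e3) h.es.ne
  have hab := mul_mem ha hb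
  have e4 : (a * b)⁻¹ = a * b ∨ (a * b)⁻¹ = a * b * z := (h.es.sq_mem _ hab).imp inv_eq_of_mul_eq_one_right fun e =>
    inv_eq_of_mul_eq_one_right (by rw [← mul_assoc, e, h.es.sq])
  rcases h.fx _ (mul_mem ha (mul_mem hb hc)) e2 with e3 | e3 <;> rw [← mul_assoc, ← eq_inv_mul_iff_mul_eq] at e3
  · rwa [e3, mul_one]
  · rcases e4 with e4 | e4 <;> rw [e4] at e3
    · exact Or.inr e3
    · exact Or.inl (by rw [e3, mul_assoc, h.es.sq, mul_one])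

theorem q8 {D : G → Prop} (hD : ∀ p, D p → p ∈ Q) (hm : ∀ p q, D p → D q → D (p * q)) (hz : D z) {p q : G} (hp : D p) (hq : D q)
    (hn : p * q ≠ q * p) : ∃ a, D a ∧ a * a = z ∧ x * (x * a * x⁻¹) * x⁻¹ = a * (x * a * x⁻¹) := by
  obtain ⟨a, h1, h2⟩ : ∃ a, D a ∧ a * a = z := by
    rcases h.es.sq_mem p (hD p hp) with e1 | e1; swap; · exact ⟨p, hp, e1⟩
    rcases h.es.sq_mem q (hD q hq) with e2 | e2; swap; · exact ⟨q, hq, e2⟩
    refine ⟨p * q, hm p q hp hq, ?_⟩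
    nth_rewrite 2 [h.es.anti (hD p hp) (hD q hq) hn]
    rw [← mul_assoc, mul_assoc p, ← mul_assoc q, e2, one_mul, e1, one_mul]
  rcases h.tri (hD a h1) with e | e
  · exact ⟨a, h1, h2, e⟩
  have c := h.es.cen a (hD a h1)
  refine ⟨a * z, hm a z h1 hz, by rw [mul_assoc, ← mul_assoc z, ← c, mul_assoc, h.es.sq, mul_one, h2], ?_⟩
  rw [← conj_mul (a := a), h.xz, ← conj_mul (c := z), h.xz, e, mul_assoc _ z, h.es.sq, mul_one, mul_assoc a z,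
    ← mul_assoc z, ← h.es.cen _ (h.xn a (hD a h1)), mul_assoc _ z, h.es.sq, mul_one]

theorem rel {a : G} (h1 : a * a = z) (h2 : x * (x * a * x⁻¹) * x⁻¹ = a * (x * a * x⁻¹)) :
    x * a * x⁻¹ * (x * a * x⁻¹) = z ∧ a * (x * a * x⁻¹) * a = x * a * x⁻¹ := by
  have e : x * a * x⁻¹ * (x * a * x⁻¹) = z := by rw [conj_mul, h1, h.xz]
  refine ⟨e, mul_right_cancel (b := x * a * x⁻¹) ?_⟩
  rw [mul_assoc, ← h2, conj_mul, e, h.xz]

theorem exists_RN [Finite G] (hQ : Nat.card Q = 32) : ∃ a b c d, RN a b c d x ∧ a * a = z ∧ a ∈ Q ∧ b ∈ Q ∧ c ∈ Q ∧ d ∈ Q := by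
  classical
  obtain ⟨p, hp, q, hq, hn⟩ := h.es.nonab
  obtain ⟨a, a1, a2, a3⟩ := h.q8 (D := (· ∈ Q)) (fun _ => id) (fun _ _ => mul_mem) h.es.mem hp hq hn
  obtain ⟨b2, b3⟩ := h.rel a2 a3
  have b1 := h.xn a a1
  set b := x * a * x⁻¹ with hb
  have ab : a * b ≠ b * a := fun e => h.es.ne (by rw [← a2, ← mul_left_cancel_iff (a := b), ← mul_assoc, ← e, b3, mul_one])
  let D : G → Prop := fun q => q ∈ Q ∧ a * q = q * a ∧ b * q = q * b
  have hm : ∀ p q, D p → D q → D (p * q) := fun p q hp hq => ⟨mul_mem hp.1 hq.1,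
    (h.es.mul_comm_iff a1 hp.1 hq.1).2 (iff_of_true hp.2.1 hq.2.1), (h.es.mul_comm_iff b1 hp.1 hq.1).2 (iff_of_true hp.2.2 hq.2.2)⟩
  have hd : ∀ q ∈ Q, ∃ e ∈ [1, a, b, a * b], D (q * e) := fun q hq => by
    have k1 := fun e he => h.es.mul_comm_iff a1 hq (y := e) he
    have k2 := fun e he => h.es.mul_comm_iff b1 hq (y := e) he
    have k3 := h.es.mul_comm_iff a1 a1 b1
    have k4 := h.es.mul_comm_iff b1 a1 b1
    by_cases e1 : a * q = q * a <;> by_cases e2 : b * q = q * b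
    · exact ⟨1, by simp, by rw [mul_one]; exact ⟨hq, e1, e2⟩⟩
    · exact ⟨a, by simp, mul_mem hq a1, (k1 a a1).2 (iff_of_true e1 rfl), (k2 a a1).2 (iff_of_false e2 ab.symm)⟩
    · exact ⟨b, by simp, mul_mem hq b1, (k1 b b1).2 (iff_of_false e1 ab), (k2 b b1).2 (iff_of_true e2 rfl)⟩
    · exact ⟨a * b, by simp, mul_mem hq (mul_mem a1 b1), (k1 _ (mul_mem a1 b1)).2 (iff_of_false e1 fun e => ab ((k3.1 e).1 rfl)),
        (k2 _ (mul_mem a1 b1)).2 (iff_of_false e2 fun e => ab ((k4.1 e).2 rfl).symm)⟩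
  obtain ⟨p, q, hp, hq, hn⟩ : ∃ p q, D p ∧ D q ∧ p * q ≠ q * p := by
    by_contra hc
    push Not at hc
    have k : ∀ p, D p → p = 1 ∨ p = z := fun p hp => h.es.of_cen p hp.1 fun q hq => by
      obtain ⟨e, he, h1⟩ := hd q hq
      have h2 : Commute p e := by
        simp only [List.mem_cons, List.not_mem_nil, or_false] at he
        rcases he with rfl | rfl | rfl | rfl
        exacts [Commute.one_right p, hp.2.1.symm, hp.2.2.symm, Commute.mul_right hp.2.1.symm hp.2.2.symm]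
      simpa using (Commute.mul_right (hc p _ hp h1) h2.inv_right).eq
    have : Nat.card Q ≤ Nat.card (([1, a, b, a * b].map fun e => e⁻¹) ++ [1, a, b, a * b].map fun e => z * e⁻¹).toFinset :=
      Nat.card_mono (Set.toFinite _) fun q hq => by
        obtain ⟨e, he, h1⟩ := hd q hq
        rw [Finset.mem_coe, List.mem_toFinset, List.mem_append, List.mem_map, List.mem_map]
        exact (k _ h1).imp (fun h => ⟨e, he, inv_eq_of_mul_eq_one_left h⟩) fun h => ⟨e, he, by rw [← h]; group⟩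
    rw [hQ, Nat.card_eq_finsetCard] at this
    exact absurd (this.trans (List.toFinset_card_le _)) (by simp)
  obtain ⟨c, c1, c2, c3⟩ := h.q8 (D := D) (fun _ h => h.1) hm ⟨h.es.mem, h.es.cen a a1, h.es.cen b b1⟩ hp hq hn
  obtain ⟨d2, d3⟩ := h.rel c2 c3
  have e1 : b * (x * c * x⁻¹) = x * c * x⁻¹ * b := by rw [hb, conj_mul, conj_mul, c1.2.1]
  have e2 : a * b * (x * c * x⁻¹) = x * c * x⁻¹ * (a * b) := by rw [← a3, conj_mul, conj_mul, c1.2.2]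
  exact ⟨a, b, c, _, ⟨by rw [a2, h.es.sq], a2.trans b2.symm, a2.trans c2.symm, a2.trans d2.symm, b3, d3, c1.2.1,
    mul_right_cancel (b := b) (by rw [mul_assoc, ← e1, ← mul_assoc, e2, mul_assoc _ a]), c1.2.2, e1, h.x3, rfl, a3, rfl, c3⟩,
    a2, a1, b1, c1.1, h.xn c c1.1⟩

end FP

theorem onto [Finite G] {M : Type} [Group M] {f : M →* G} (hf : Function.Injective f) {S : Subgroup M} (hS : Nat.card S = 32)
    (hQ : Nat.card Q = 32) {gn : ℕ → M} {wd : M → ℕ} (h1 : ∀ h ∈ S, evc (fun n => if n < 9 then gn n else 1) 8 (wd h) = h)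
    {a b c d x t : M} (h2 : ∀ n < 16, gn n = lt a b c d x t n) (h3 : f a ∈ Q ∧ f b ∈ Q ∧ f c ∈ Q ∧ f d ∈ Q) :
    ∀ q ∈ Q, ∃ h ∈ S, f h = q := by
  refine fun q hq => (eq_of_le_of_card_ge (H := S.map f) (map_le_iff_le_comap.2 fun h hh => ?_)
    (by rw [card_map_of_injective hf, hS, hQ])).ge hq
  rw [← h1 h hh]
  refine ev_evc (fun n hn => mem_comap.2 ?_) _ _
  split_ifs with e
  · rw [h2 n hn]; interval_cases n <;> simp [lt, h3]
  · simp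

theorem su_of {M : Type} [Group M] {f : M →* G} {w : M} (hf : Function.Injective f) (e : f w = z) {t : G}
    (h1 : (∀ h, h * w = w * h) ∧ w * w = 1 ∧ w ≠ 1) (h2 : ∀ q ∈ Q, ∃ h, f h = q) (h3 : (∃ h, f h = x) ∧ ∃ h, f h = t)
    (h4 : ∀ l, l * z = z * l → ∃ k ∈ [1, x, x⁻¹, t, t * x, t * x⁻¹], l * k⁻¹ ∈ Q) : Su f w := by
  refine ⟨hf, fun g hg => ?_, h1.1, h1.2.1, h1.2.2⟩
  obtain ⟨k, k1, k2⟩ := h4 g (e ▸ hg)
  have a : x ∈ f.range := h3.1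
  have b : t ∈ f.range := h3.2
  have : k ∈ f.range := by
    simp only [List.mem_cons, List.not_mem_nil, or_false] at k1
    rcases k1 with rfl | rfl | rfl | rfl | rfl | rfl
    exacts [one_mem _, a, inv_mem a, b, mul_mem b a, mul_mem b (inv_mem a)]
  simpa using f.range.mul_mem (h2 _ k2) this

theorem FP.main [Finite G] (h : FP Q z x) (hQ : Nat.card Q = 32) (hn : ∀ l, l * z = z * l → ∀ q ∈ Q, l * q * l⁻¹ ∈ Q)
    (hw : ∀ u, u * z = z * u → u * u = 1 → u ∉ Q → u * (x * u * x⁻¹) * x⁻¹ ∈ Q)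
    (hs : ∀ t, t * z = z * t → t * t = 1 → t ∉ Q → ∀ l, l * z = z * l → ∃ k ∈ [1, x, x⁻¹, t, t * x, t * x⁻¹], l * k⁻¹ ∈ Q)
    {g : G} (g1 : g * z * g⁻¹ ∈ Q) (g2 : g * z * g⁻¹ ≠ z) :
    NV G ∨ Nonempty (G ≃* alternatingGroup (Fin 8)) ∨ Nonempty (G ≃* alternatingGroup (Fin 9)) ∨ Spor.IsoM12 G := by
  obtain ⟨a, b, c, d, hr, a2, hQ4⟩ := h.exists_RN hQ
  obtain ⟨f, rfl, rfl, rfl, rfl, rfl⟩ := exists_homN hr
  have fz : f (.el 16) = z := by rw [← a2, ← map_mul]; rfl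
  have hf := HN.inj (fz ▸ h.es.ne)
  have on := onto hf (S := sg (fun h : HN => h.1 < 32) (by decide +kernel)) ((card_sg _ _).trans (by decide +kernel)) hQ
    (gn := HN.gn) (wd := HN.wd) (by decide +kernel) (x := .el 32) (t := 1) (by decide +kernel) hQ4
  obtain ⟨u, u1, u2, u3⟩ : ∃ u, u * z = z * u ∧ u * u = 1 ∧ u ∉ Q := by
    obtain ⟨v, v1, v2⟩ := on _ g1
    obtain ⟨p, p1, q, q1, e⟩ := (by decide +kernel : ∀ v : HN, v.1 < 32 → v * v = 1 → v ≠ 1 → v ≠ .el 16 →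
      ∃ p, In v p ∧ ∃ q, In v q ∧ p * q * p⁻¹ * q⁻¹ = .el 16) v v1 (hf (by rw [map_mul, v2, conj_mul, h.es.sq]; simp))
      (fun e => h.es.ne (by rwa [e, map_one, eq_comm, conj_eq_one_iff] at v2)) fun e => g2 (by rw [← v2, e, fz])
    have k : ∀ p, In v p → g⁻¹ * f p * g⁻¹⁻¹ * z = z * (g⁻¹ * f p * g⁻¹⁻¹) ∧ g⁻¹ * f p * g⁻¹⁻¹ * (g⁻¹ * f p * g⁻¹⁻¹) = 1 :=
      fun p hp => ⟨by rw [show z = g⁻¹ * f v * g⁻¹⁻¹ by rw [v2]; group, conj_mul, conj_mul, ← map_mul, hp.1, map_mul],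
        by rw [conj_mul, ← map_mul, hp.2]; simp⟩
    by_contra hc
    push Not at hc
    have := h.es.commutator_mem (hc _ (k p p1).1 (k p p1).2) (hc _ (k q q1).1 (k q q1).2)
    rw [conj_inv, conj_inv, conj_mul, conj_mul, conj_mul, ← map_inv, ← map_inv, ← map_mul, ← map_mul, ← map_mul, e, fz,
      h.es.mem_zp, conj_eq_one_iff] at this
    refine this.elim h.es.ne fun e => g2 ?_
    nth_rewrite 1 [← e]; group
  obtain ⟨w, w1, w2⟩ := on _ (hw u u1 u2 u3)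
  obtain ⟨n, n1, n2⟩ := (by decide +kernel : ∀ w : HN, w.1 < 32 → ∃ n : HN, n.1 < 32 ∧
    n * (w * .el 32 * (w * .el 32)) * n⁻¹ = (.el 32)⁻¹) w w1
  have zc : ∀ h, f h * z = z * f h := fun h => by
    rw [← fz, ← map_mul, ← map_mul, (by decide +kernel : ∀ h : HN, h * .el 16 = .el 16 * h) h]
  obtain ⟨t, t1, t2, t3, t4⟩ : ∃ t, t * z = z * t ∧ t * t = 1 ∧ t ∉ Q ∧ Cj f t (.el 32) (.el 32)⁻¹ := by
    have ui := inv_eq_of_mul_eq_one_right u2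
    have e1 : Cj f u (w * .el 32) (w * .el 32)⁻¹ := by
      rw [Cj, map_inv, map_mul, w2, inv_mul_cancel_right, ← mul_assoc, u2, mul_inv_rev, conj_inv, ui, one_mul]
    refine ⟨f n * u * (f n)⁻¹, ?_, by rw [conj_mul, u2]; group, fun e => u3 ?_, ?_⟩
    · rw [← mul_inv_eq_iff_eq_mul.2 (zc n), conj_mul, conj_mul, u1]
    · have := hn _ (map_inv f n ▸ zc n⁻¹) _ e
      simpa [mul_assoc] using this
    · exact ((e1.mul e1).conj n).inv.cast (by rw [n2, inv_inv]) (by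
        rw [← mul_inv_rev, conj_inv, inv_inv, n2])
  have ti := inv_eq_of_mul_eq_one_right t2
  obtain ⟨a, a1, a3⟩ := on _ (hn t t1 _ hQ4.1)
  obtain ⟨c, c1, c3⟩ := on _ (hn t t1 _ hQ4.2.2.1)
  have ca : Cj f t (.el 1) a := a3.symm
  have cc : Cj f t (.el 4) c := c3.symm
  have cb : Cj f t (.el 2) ((HN.el 32)⁻¹ * a * (HN.el 32)⁻¹⁻¹) := ((t4.mul ca).mul t4.inv).cast (by decide +kernel) rfl
  have cd : Cj f t (.el 8) ((HN.el 32)⁻¹ * c * (HN.el 32)⁻¹⁻¹) := ((t4.mul cc).mul t4.inv).cast (by decide +kernel) rfl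
  have τ : ∀ h : HN, Cj f t h (evc (lt a ((HN.el 32)⁻¹ * a * (HN.el 32)⁻¹⁻¹) c ((HN.el 32)⁻¹ * c * (HN.el 32)⁻¹⁻¹)
      (HN.el 32)⁻¹ 1) 8 (HN.wd h)) := fun h => (Cj.evc (fun n hn => (lt_rel (Cj f t) Cj.one (fun _ _ => Cj.inv) ca cb cc cd t4
        Cj.one n).cast ((by decide +kernel : ∀ n < 16, lt (HN.el 1) (.el 2) (.el 4) (.el 8) (.el 32) 1 n = HN.gn n) n hn) rfl)
        _ _).cast (HN.evc_wd h) rfl
  have hr' := hr.map (MulAut.conj t).toMonoidHom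
  simp only [MulEquiv.coe_toMonoidHom, MulAut.conj_apply] at hr'
  rw [ca, cb, cc, cd, t4] at hr'
  have ca' : Cj f t a (.el 1) := ca.symm.cast' ti
  have cc' : Cj f t c (.el 4) := cc.symm.cast' ti
  have tx : t * f (.el 32) * (t * f (.el 32)) = 1 := by
    rw [← mul_assoc, mul_inv_eq_iff_eq_mul.1 t4, mul_assoc _ t t, t2, mul_one, ← map_mul, inv_mul_cancel, map_one]
  have hs' := hs t t1 t2 t3
  have fQ : ∀ p : HN, p.1 < 32 → f p ∈ Q := fun p hp => (eq_of_le_of_card_ge (K := (sg (fun h : HN => h.1 < 32)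
    (by decide +kernel)).map f) on (by rw [card_map_of_injective hf, hQ, card_sg]; decide +kernel)).ge ⟨p, hp, rfl⟩
  rcases (by decide +kernel : ∀ a : HN, a.1 < 32 → a * a = .el 16 → ∀ c : HN, c.1 < 32 →
      RN a ((HN.el 32)⁻¹ * a * (HN.el 32)⁻¹⁻¹) c ((HN.el 32)⁻¹ * c * (HN.el 32)⁻¹⁻¹) (HN.el 32)⁻¹ →
      evc (lt a ((HN.el 32)⁻¹ * a * (HN.el 32)⁻¹⁻¹) c ((HN.el 32)⁻¹ * c * (HN.el 32)⁻¹⁻¹) (HN.el 32)⁻¹ 1) 8 (HN.wd a) = .el 1 →
      evc (lt a ((HN.el 32)⁻¹ * a * (HN.el 32)⁻¹⁻¹) c ((HN.el 32)⁻¹ * c * (HN.el 32)⁻¹⁻¹) (HN.el 32)⁻¹ 1) 8 (HN.wd c) = .el 4 →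
      (RN (.el 1) (.el 2) a⁻¹ (.el 32 * a⁻¹ * (.el 32)⁻¹) (.el 32) ∧ a⁻¹.1 < 32 ∧ (HN.el 32 * a⁻¹ * (.el 32)⁻¹).1 < 32) ∨
      ∃ p ∈ [HN.el 1, .el 2, .el 3], ∃ q ∈ [HN.el 4, .el 8, .el 12],
        evc (lt a ((HN.el 32)⁻¹ * a * (HN.el 32)⁻¹⁻¹) c ((HN.el 32)⁻¹ * c * (HN.el 32)⁻¹⁻¹) (HN.el 32)⁻¹ 1) 8 (HN.wd p) * p = 1 ∧
        evc (lt a ((HN.el 32)⁻¹ * a * (HN.el 32)⁻¹⁻¹) c ((HN.el 32)⁻¹ * c * (HN.el 32)⁻¹⁻¹) (HN.el 32)⁻¹ 1) 8 (HN.wd q) * q = 1)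
      a a1 ((ca.mul ca).uniq hf (Cj.of_comm (fz ▸ t1))) c c1 (RN.of_map hf hr') ((τ a).uniq hf ca') ((τ c).uniq hf cc')
    with ⟨e1, e2, e3⟩ | ⟨p, p1, q, q1, e1, e2⟩
  · obtain ⟨φ, hφ⟩ := exists_homA (e1.map f) t2 tx (by nth_rewrite 2 [← ti]; rw [ca, ← map_mul]; simp)
      (by nth_rewrite 2 [← ti]; rw [ca'.inv, ← map_mul]; simp)
    have φz : φ (.el 16) = z := by rw [← a2, ← hφ.1, ← map_mul]; rfl
    have hi := HA.inj (φz ▸ h.es.ne)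
    have on' := onto hi (S := sg (fun h : HA => h.1 < 32) (by decide +kernel)) ((card_sg _ _).trans (by decide +kernel)) hQ
      (gn := HA.gn) (wd := HA.wd) (by decide +kernel) (x := .el 64) (t := .el 32) (by decide +kernel)
      ⟨hφ.1 ▸ hQ4.1, hφ.2.1 ▸ hQ4.2.1, hφ.2.2.1 ▸ fQ _ e2, hφ.2.2.2.1 ▸ fQ _ e3⟩
    obtain ⟨v, v1, v2⟩ := on' _ g1
    exact (HA.main (su_of hi φz (by decide +kernel) (fun q hq => (on' q hq).imp fun _ h => h.2) ⟨⟨_, hφ.2.2.2.2.1⟩, _, hφ.2.2.2.2.2⟩ hs')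
      v1 (fun e => g2 (by rw [← v2, e, φz])) (isConj_iff.2 ⟨g, by rw [φz, v2]⟩)).imp id (Or.imp id Or.inl)
  · obtain ⟨e3, e4, e5, e6, e7, e8⟩ := (by decide +kernel : ∀ p ∈ [HN.el 1, .el 2, .el 3], ∀ q ∈ [HN.el 4, .el 8, .el 12],
      RN p (.el 32 * p * (.el 32)⁻¹) q (.el 32 * q * (.el 32)⁻¹) (.el 32) ∧ p * p = .el 16 ∧ p.1 < 32 ∧
      (HN.el 32 * p * (.el 32)⁻¹).1 < 32 ∧ q.1 < 32 ∧ (HN.el 32 * q * (.el 32)⁻¹).1 < 32) p p1 q q1
    have k : ∀ {p r}, Cj f t p r → r * p = 1 → t * f p * (t * f p) = 1 := fun {p r} h e => by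
      nth_rewrite 2 [← ti]; rw [← mul_assoc, h, ← map_mul, e, map_one]
    obtain ⟨φ, hφ⟩ := exists_homB (e3.map f) t2 tx (k (τ p) e1) (k (τ q) e2)
    have φz : φ (.el 16) = z := by rw [← fz, ← e4, map_mul f, ← hφ.1, ← map_mul]; rfl
    have hi := HB.inj (φz ▸ h.es.ne)
    have on' := onto hi (S := sg (fun h : HB => h.1 < 32) (by decide +kernel)) ((card_sg _ _).trans (by decide +kernel)) hQ
      (gn := HB.gn) (wd := HB.wd) (by decide +kernel) (x := .el 64) (t := .el 32) (by decide +kernel)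
      ⟨hφ.1 ▸ fQ _ e5, hφ.2.1 ▸ fQ _ e6, hφ.2.2.1 ▸ fQ _ e7, hφ.2.2.2.1 ▸ fQ _ e8⟩
    obtain ⟨v, v1, v2⟩ := on' _ g1
    exact (HB.main (su_of hi φz (by decide +kernel) (fun q hq => (on' q hq).imp fun _ h => h.2) ⟨⟨_, hφ.2.2.2.2.1⟩, _, hφ.2.2.2.2.2⟩ hs')
      v1 (fun e => g2 (by rw [← v2, e, φz])) (isConj_iff.2 ⟨g, by rw [φz, v2]⟩)).imp id fun h => Or.inr (Or.inr h)

end Cfsg.Lib.X32
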