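import Cfsg.Agent.Lib.X32.Gen
import Cfsg.Agent.Lib.SF.GStr2
import Cfsg.Agent.Lib.Linear.SmallIso

/-!
# The case of a strongly closed elementary abelian subgroup of order eight
-/

namespace Cfsg.Lib.X32

open Subgroup Cfsg.Lib.Transfer Cfsg.Lib.Invol

universe u

/-- `G` is an extension of `2³` by `L₃(2)`. -/
def NV (G : Type u) [Group G] : Prop :=
  ∃ (N : Subgroup G) (_ : N.Normal), IsMulCommutative N ∧ (∀ n ∈ N, n ^ 2 = 1) ∧ Nat.card N = 8 ∧
    Nonempty (G ⧸ N ≃* Matrix.ProjectiveSpecialLinearGroup (Fin 3) (ZMod 2))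

variable {G : Type u} [Group G] [Finite G] {M : Type} [Group M] {φ : M →* G} {z s : M}

local instance : Fact (Nat.Prime 2) := ⟨Nat.prime_two⟩

theorem Su.bot (su : Su φ z) (hinj : ∀ {Γ : Type u} [Group Γ] (f : M →* Γ), f z ≠ 1 → Function.Injective f)
    (h1 : Fz φ z s) (h2 : Fz φ z (s * z)) {O : Subgroup G} (hn : O.Normal) (hz : φ z ∉ O) : O = ⊥ := by
  have hi := hinj ((QuotientGroup.mk' O).comp φ) fun e => hz ((QuotientGroup.eq_one_iff _).1 e)
  have k : ∀ c, Fz φ z c → ∀ d ∈ O, Commute d (φ c) → d = 1 := fun c hc d hd e => by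
    obtain ⟨g, hg⟩ := isConj_iff.1 hc
    obtain ⟨h, hh⟩ := su.cen (g⁻¹ * d * g) (by
      calc _ = g⁻¹ * (d * (g * φ z * g⁻¹)) * g := by group
        _ = _ := by rw [hg, e.eq, ← hg]; group)
    have : h = 1 := hi (((QuotientGroup.eq_one_iff _).2 (hh ▸ hn.conj_mem' d hd g)).trans (map_one _).symm)
    rw [this, map_one, eq_comm] at hh
    simpa [mul_assoc] using congrArg (fun x => g * x * g⁻¹) hh
  exact fpf (v := φ z) (s := φ s) (by rw [← map_mul, su.zz, map_one]) (by rw [← map_mul, (su.fz_sq h1).1, map_one])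
    (by rw [normalizer_eq_top]; trivial) (by rw [normalizer_eq_top]; trivial) (k z Fz.refl) (k s h1)
    (map_mul φ s z ▸ k _ h2)

theorem Su.nv (su : Su φ z) (hinj : ∀ {Γ : Type u} [Group Γ] (f : M →* Γ), f z ≠ 1 → Function.Injective f)
    {V T : Subgroup M} (hT : SylowIn 2 (T.map φ) ⊤) (cM : Nat.card M = 192) (cV : Nat.card V = 8) (VT : V ≤ T)
    (hF : ∀ h, Fz φ z h ↔ h ∈ V ∧ h ≠ 1) {y : G} {f : M → M} (hy : Ac φ (· ∈ V) y f) (y3 : y * y * y = 1) {X : M}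
    (m : (s ∈ V ∧ s ≠ 1 ∧ s * z ≠ 1 ∧ X * X = 1 ∧ X ∉ V) ∧ (∀ v ∈ V, v * v = 1 ∧ (∀ w ∈ V, v * w = w * v) ∧
      ∀ k, k * v * k⁻¹ ∈ V) ∧ (∀ h, (∀ v ∈ V, h * v * h⁻¹ = v) → h ∈ V) ∧
      (∀ v ∈ V, (fun p => X * f p * X⁻¹)^[7] v = v) ∧
      ∀ v ∈ V, (fun p => X * f (X * f (f p) * X⁻¹) * X⁻¹)^[4] v = v) : NV G := by
  obtain ⟨⟨sV, s1, sz1, XX, XV⟩, m1, m2, m3, m4⟩ := m
  have zV := ((hF z).1 Fz.refl).1
  set W := V.map φ with hW
  set L := normalizer (W : Set G) with hL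
  have cW : Nat.card W = 8 := by rw [hW, card_map_of_injective su.inj, cV]
  have nA : ∀ {g : G} {f : M → M}, Ac φ (· ∈ V) g f → g ∈ L := fun {g f} h =>
    mem_normalizer_of_cj_le (cj_le_iff.2 (by rintro _ ⟨v, hv, rfl⟩; exact ⟨_, (h v hv).1, Eq.symm (h v hv).2⟩))
  have aH : ∀ k, Ac φ (· ∈ V) (φ k) fun p => k * p * k⁻¹ := fun k => .of k fun p hp => (m1 p hp).2.2 k
  have tA : ∀ {g : G} {f : M → M}, Ac φ (· ∈ V) g f → (∀ v ∈ V, f v = v) → g ∈ W := fun {g f} h e => by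
    obtain ⟨k, rfl, hk⟩ := h.fix su zV (e z zV)
    exact mem_map_of_mem φ (m2 k fun v hv => (hk v hv).trans (e v hv))
  have pA : ∀ {g : G} {f : M → M}, Ac φ (· ∈ V) g f → ∀ n, Ac φ (· ∈ V) (g ^ n) f^[n] := fun {g f} h n => by
    induction n with
    | zero => exact fun p hp => ⟨hp, Cj.id.cast' (pow_zero g).symm⟩
    | succ n ih => rw [pow_succ]; exact ih.mul h
  have hc : ∀ a ∈ W, ∀ b ∈ W, a * b = b * a := by
    rintro _ ⟨a, ha, rfl⟩ _ ⟨b, hb, rfl⟩; rw [← map_mul, (m1 a ha).2.1 b hb, map_mul]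
  have cL : Nat.card L ≤ 8 * 192 := by
    have : Finite M := Finite.of_injective φ su.inj
    rw [← cW, ← cM, ← Nat.card_prod]
    refine Nat.card_le_card_of_surjective (fun x : W × M => Classical.epsilon (fun g : L => (g : G) * φ z * (g : G)⁻¹ = x.1) *
      ⟨φ x.2, nA (aH _)⟩) fun g => ?_
    have h1 := Classical.epsilon_spec (p := fun a : L => (a : G) * φ z * (a : G)⁻¹ = g * φ z * (g : G)⁻¹) ⟨g, rfl⟩
    set a := Classical.epsilon fun a : L => (a : G) * φ z * (a : G)⁻¹ = g * φ z * (g : G)⁻¹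
    obtain ⟨h, hh⟩ := su.cen ((a : G)⁻¹ * g) (by
      calc _ = (a : G)⁻¹ * (g * φ z * (g : G)⁻¹) * g := by group
        _ = _ := by rw [← h1]; group)
    exact ⟨⟨⟨_, conj_mem_of_mem_normalizer g.2 (mem_map_of_mem φ zV)⟩, h⟩, Subtype.ext (by
      change (a : G) * φ h = g; rw [hh]; group)⟩
  let π := QuotientGroup.mk' (W.subgroupOf L)
  have hπ : ∀ g : L, π g = 1 ↔ (g : G) ∈ W := fun g => QuotientGroup.eq_one_iff g
  have yi : y⁻¹ = y * y := inv_eq_of_mul_eq_one_left y3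
  obtain ⟨ψ, ψ1, -⟩ := Linear.exists_hom_SL32 (x := π ⟨φ X, nA (aH X)⟩) (y := π ⟨y, nA hy⟩)
    (by rw [← map_mul, hπ]; change φ X * φ X ∈ W; rw [← map_mul, XX, map_one]; exact one_mem _)
    (by rw [← map_pow, hπ]; change y ^ 3 ∈ W; rw [pow_three', y3]; exact one_mem _)
    (by rw [← map_mul, ← map_pow, hπ]; exact tA (pA ((aH X).mul hy) 7) m3)
    (by
      rw [← map_inv, ← map_mul, ← map_mul, ← map_mul, ← map_pow, hπ]
      change (φ X * y * φ X * y⁻¹) ^ 4 ∈ W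
      rw [yi, mul_assoc, mul_assoc]
      exact tA (pA ((aH X).mul (hy.mul ((aH X).mul (hy.mul hy)))) 4) m4)
  have hs := Linear.sl_isSimpleGroup_of_card_two (ι := Fin 3) (F := ZMod 2) (Nat.card_zmod 2) (by simp)
  have XW : φ X ∉ W := fun ⟨v, hv, e⟩ => XV (su.eq e ▸ hv)
  have ψi : Function.Injective ψ := (MonoidHom.ker_eq_bot_iff ψ).1
    ((hs.eq_bot_or_eq_top_of_normal ψ.ker inferInstance).resolve_right fun e => XW ((hπ ⟨_, nA (aH X)⟩).1 (ψ1.symm.trans (e.ge (mem_top _)))))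
  have ψb : Function.Bijective ψ := (Nat.bijective_iff_injective_and_card ψ).2 ⟨ψi, by
    have h1 := card_dvd_of_injective ψ ψi
    have h2 := card_eq_card_quotient_mul_card_subgroup (W.subgroupOf L)
    rw [Nat.card_congr (subgroupOfEquivOfLe le_normalizer).toEquiv, cW] at h2
    have h3 : 0 < Nat.card (L ⧸ W.subgroupOf L) := Nat.card_pos
    rw [Linear.card_SL_three_two] at h1 ⊢
    omega⟩
  have hs' := (MulEquiv.ofBijective ψ ψb).symm.isSimpleGroup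
  have hsc : IsStronglyClosed W (T.map φ) := ⟨map_mono VT, by
    rintro _ ⟨v, hv, rfl⟩ g ⟨h, -, e⟩
    by_cases v1 : v = 1
    · simp [v1]
    · exact ⟨h, ((hF h).1 (((hF v).2 ⟨hv, v1⟩).cj (y := g) e.symm)).1, e⟩⟩
  have hS := BG1.syl_iff_sylowIn.2 hT
  have c := SCl.sc_cls hS hsc
  set K := SCl.KK (SCl.cls W) ⊤ with hK
  have hn : K.Normal := c.normal
  have WK : W ≤ K := SCl.le_KK (fun _ => SCl.mem_cls) le_top
  have hb := fun O => su.bot hinj ((hF s).2 ⟨sV, s1⟩) ((hF _).2 ⟨mul_mem sV zV, sz1⟩) (O := O)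
  have z2 : orderOf (φ z) = 2 := orderOf_eq_prime (by rw [pow_two, ← map_mul, su.zz, map_one])
    fun e => su.z1 (su.eq (e.trans (map_one φ).symm))
  have hO : pPrimeCore 2 K = ⊥ := by
    have := Core.pPrimeCore_characteristic 2 K
    refine (map_eq_bot_iff_of_injective _ K.subtype_injective).1 (hb _ inferInstance fun e => ?_)
    have h1 := Subgroup.orderOf_dvd_natCard _ e
    rw [z2, card_map_of_injective K.subtype_injective] at h1
    exact (Nat.prime_two.coprime_iff_not_dvd.1 (Core.coprime_card_pPrimeCore 2 K).symm) h1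
  obtain ⟨-, -, -, a4, -⟩ := SCl.gstr hO (c.comap K.subtype_injective) ((SCl.cm_cls hS hsc hsc hc).comap _ K.subtype_injective)
    (map_injective K.subtype_injective (by
      rw [SCl.KK_sub, ← MonoidHom.range_eq_map, range_subtype]
      exact le_antisymm (SCl.KK_le _ _) (SCl.KK_le_iff.2 fun a b _ => SCl.mem_KK b (SCl.mem_KK b trivial))))
  have KL : ∀ g ∈ K, g ∈ L → g ∈ W := fun g h1 h2 => by
    rcases hs'.eq_bot_or_eq_top_of_normal ((K.subgroupOf L).map π) (Normal.map inferInstance π (QuotientGroup.mk'_surjective _)) with e | e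
    · exact (hπ ⟨g, h2⟩).1 (e.le ⟨⟨g, h2⟩, h1, rfl⟩)
    · obtain ⟨k, k1, k2⟩ := e.ge (mem_top (π ⟨φ X, nA (aH X)⟩))
      have k3 : (k : G)⁻¹ * φ X ∈ W := (QuotientGroup.eq (s := W.subgroupOf L) (a := k) (b := ⟨φ X, nA (aH X)⟩)).1 k2
      have h3 : φ X ∈ K := by simpa using K.mul_mem k1 (WK k3)
      obtain ⟨g, v, hv, e⟩ := a4 ⟨_, h3⟩ (Subtype.ext (by change φ X * φ X = 1; rw [← map_mul, XX, map_one]))
      have h4 : Cj φ g X v := e.symm
      refine absurd ((hF X).1 (((hF v).2 ⟨hv, fun v1 => XV ?_⟩).cj h4.symm)).1 XV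
      rw [(h4.cast rfl v1).symm.uniq su.inj Cj.one]; exact one_mem _
  have hS2 : SylowIn 2 W K := by
    have := hT.inf_of_le (N := K) (by rw [normalizer_eq_top]) le_top
    rwa [le_antisymm (fun g hg => KL g hg.2 (by obtain ⟨h, -, rfl⟩ := hg.1; exact nA (aH h))) (le_inf hsc.1 WK)] at this
  have e := burn hS2 (fun g hg a ha => hc a ha g (KL g hg.1 hg.2)) fun O h1 _ h3 => hb O h1 fun e =>
    ne_one_of_two z2 (mem_bot.1 (h3.le ⟨mem_map_of_mem φ zV, e⟩))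
  have hn' : W.Normal := e ▸ hn
  obtain ⟨e1⟩ := Linear.nonempty_sl_equiv_psl (ι := Fin 3) (F := ZMod 2) (by simp)
  refine ⟨W, hn', ⟨⟨fun a b => Subtype.ext (hc a a.2 b b.2)⟩⟩, ?_, cW, ⟨(QuotientGroup.congr (W.subgroupOf L) W
    ((MulEquiv.subgroupCongr (normalizer_eq_top W)).trans topEquiv) ?_).symm.trans
      ((MulEquiv.ofBijective ψ ψb).symm.trans e1)⟩⟩
  · rintro _ ⟨v, hv, rfl⟩; rw [pow_two, ← map_mul, (m1 v hv).1, map_one]
  · exact le_antisymm (by rintro _ ⟨a, ha, rfl⟩; exact ha) fun a ha => ⟨⟨a, le_normalizer ha⟩, ha, rfl⟩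

end Cfsg.Lib.X32
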