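import Cfsg.Agent.Lib.X32.CaseB

/-!
# The centraliser of type `A₈`: fusion
-/

set_option maxRecDepth 100000
set_option synthInstance.maxSize 100000
set_option Elab.async false

namespace Cfsg.Lib.X32

open Subgroup Cfsg.Lib.Transfer Cfsg.Lib.Invol Cfsg.Lib.JR

universe u

variable {G : Type u} [Group G] [Finite G]

namespace HA

local notation "⟪" n "⟫" => HA.el n

variable {φ : HA →* G} {y w : G}

/-- Word codes in the centraliser of `⟪5⟫`. -/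
def cd1 (h : HA) : ℕ := Nat.mod (Nat.shiftRight 0x3212002131000000000000003121002132000000000000000000000000021321000312000000000000000213032121000031001321000000000000000032000013000000000000000000000000000131000321000000000000000132000003032132032131000000000000000121000212000000000000000000000000321321003132000000000000000021002121000313031321000000000000000002000001000000000000000000000000003131003213000000000000000012000000 (Nat.mul 24 h.1)) 16777216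

theorem hcd1 : (⟪5⟫ * ⟪5⟫ = 1 ∧ ⟪13⟫ * ⟪5⟫ * ⟪13⟫⁻¹ = ⟪5⟫ * ⟪16⟫ ∧ ⟪13⟫ * ⟪13⟫ = 1 ∧ In ⟪5⟫ ⟪10⟫ ∧ In ⟪5⟫ ⟪11⟫ ∧ In ⟪5⟫ ⟪32⟫) ∧
    ∀ h, h * ⟪5⟫ = ⟪5⟫ * h → rho cd1 ⟪10⟫ ⟪11⟫ ⟪32⟫ h = h := by decide +kernel

theorem sols1 : ∀ a, In ⟪5⟫ a → ∀ b, In ⟪5⟫ b → a * b * (a * b) = ⟪5⟫ → ∀ c, In ⟪5⟫ c →
    Cond cd1 ⟪16⟫ ⟪5⟫ ⟪13⟫ ⟪10⟫ ⟪11⟫ ⟪32⟫ a b c → (a = ⟪10⟫ ∨ a = ⟪31⟫) ∧
    (b = ⟪32⟫ ∧ c = ⟪43⟫ ∨ b = ⟪48⟫ ∧ c = ⟪46⟫) := by decide +kernel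

omit [Finite G] in
theorem ex1 (su : Su φ ⟪16⟫) (h : Fz φ ⟪16⟫ ⟪5⟫) : ∃ y, Y3 φ ⟪16⟫ ⟪5⟫ ⟪13⟫ y ∧ ∃ a b c, ((a = ⟪10⟫ ∨ a = ⟪31⟫) ∧
    (b = ⟪32⟫ ∧ c = ⟪43⟫ ∨ b = ⟪48⟫ ∧ c = ⟪46⟫)) ∧ Cj φ y ⟪10⟫ a ∧ Cj φ y ⟪11⟫ b ∧ Cj φ y ⟪32⟫ c := by
  obtain ⟨g, g1, g2⟩ := su.sym hM h (by decide) (p := ⟪10⟫ * ⟪11⟫) (q := ⟪10⟫) (by decide +kernel) (by decide +kernel)
    (by decide +kernel)
  obtain ⟨y, hy⟩ := su.exists_Y3 g1 g2 (j := ⟪13⟫) (by decide +kernel) (by decide +kernel) (by decide +kernel) (by decide +kernel)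
  obtain ⟨a, a1, b, b1, c, c1, h, a2, b2, c2⟩ := su.exists_rho hy hcd1
  exact ⟨y, hy, a, b, c, sols1 a a1 b b1 (((a2.mul b2).mul (a2.mul b2)).uniq su.inj (hy.yz.cast (by decide +kernel) rfl))
    c c1 h, a2, b2, c2⟩

/-- Word codes in the centraliser of `⟪11⟫`. -/
def cd2 (h : HA) : ℕ := Nat.mod (Nat.shiftRight 0x2131002132000000021321000000000000000213000000003212003121000000000312000000000000032121000000001321000013000000000131000000000000000132000000000031000032000000000321000000000000000003000000032131000212000000321321000000000000000021000000032132000121000000003132000000000000002121000000031321000001000000003131000000000000000012000000000313000002000000003213000000000000000000 (Nat.mul 24 h.1)) 16777216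

theorem hcd2 : (⟪11⟫ * ⟪11⟫ = 1 ∧ ⟪10⟫ * ⟪11⟫ * ⟪10⟫⁻¹ = ⟪11⟫ * ⟪16⟫ ∧ ⟪10⟫ * ⟪10⟫ = 1 ∧ In ⟪11⟫ ⟪13⟫ ∧ In ⟪11⟫ ⟪5⟫ ∧ In ⟪11⟫ ⟪32⟫) ∧
    ∀ h, h * ⟪11⟫ = ⟪11⟫ * h → rho cd2 ⟪13⟫ ⟪5⟫ ⟪32⟫ h = h := by decide +kernel

theorem sols2 : ∀ a, In ⟪11⟫ a → ∀ b, In ⟪11⟫ b → a * b * (a * b) = ⟪11⟫ → ∀ c, In ⟪11⟫ c →
    Cond cd2 ⟪16⟫ ⟪11⟫ ⟪10⟫ ⟪13⟫ ⟪5⟫ ⟪32⟫ a b c → (a = ⟪13⟫ ∨ a = ⟪22⟫) ∧
    (b = ⟪32⟫ ∧ c = ⟪37⟫ ∨ b = ⟪48⟫ ∧ c = ⟪46⟫) := by decide +kernel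

omit [Finite G] in
theorem ex2 (su : Su φ ⟪16⟫) (h : Fz φ ⟪16⟫ ⟪11⟫) : ∃ y, Y3 φ ⟪16⟫ ⟪11⟫ ⟪10⟫ y ∧ ∃ a b c, ((a = ⟪13⟫ ∨ a = ⟪22⟫) ∧
    (b = ⟪32⟫ ∧ c = ⟪37⟫ ∨ b = ⟪48⟫ ∧ c = ⟪46⟫)) ∧ Cj φ y ⟪13⟫ a ∧ Cj φ y ⟪5⟫ b ∧ Cj φ y ⟪32⟫ c := by
  obtain ⟨g, g1, g2⟩ := su.sym hM h (by decide) (p := ⟪13⟫ * ⟪5⟫) (q := ⟪13⟫) (by decide +kernel) (by decide +kernel)
    (by decide +kernel)
  obtain ⟨y, hy⟩ := su.exists_Y3 g1 g2 (j := ⟪10⟫) (by decide +kernel) (by decide +kernel) (by decide +kernel) (by decide +kernel)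
  obtain ⟨a, a1, b, b1, c, c1, h, a2, b2, c2⟩ := su.exists_rho hy hcd2
  exact ⟨y, hy, a, b, c, sols2 a a1 b b1 (((a2.mul b2).mul (a2.mul b2)).uniq su.inj (hy.yz.cast (by decide +kernel) rfl))
    c c1 h, a2, b2, c2⟩

/-- Word codes in the centraliser of `⟪30⟫`. -/
def cd3 (h : HA) : ℕ := Nat.mod (Nat.shiftRight 0x21321000000000321002131000000000031000000000013000000003121000000000000000132000000032121000000000131000000000312001321000000003212000000002132000000000032000000000000000213000000000003000000321321000000003213032131000000000313000000000001000000000121000000000000000012000000002121000000003131000000003132031321000000032132000000000212000000000002000000000000000021000000000000 (Nat.mul 24 h.1)) 16777216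

theorem hcd3 : (⟪30⟫ * ⟪30⟫ = 1 ∧ ⟪10⟫ * ⟪30⟫ * ⟪10⟫⁻¹ = ⟪30⟫ * ⟪16⟫ ∧ ⟪10⟫ * ⟪10⟫ = 1 ∧ In ⟪30⟫ ⟪23⟫ ∧ In ⟪30⟫ ⟪5⟫ ∧ In ⟪30⟫ ⟪32⟫) ∧
    ∀ h, h * ⟪30⟫ = ⟪30⟫ * h → rho cd3 ⟪23⟫ ⟪5⟫ ⟪32⟫ h = h := by decide +kernel

theorem sols3 : ∀ a, In ⟪30⟫ a → ∀ b, In ⟪30⟫ b → a * b * (a * b) = ⟪30⟫ → ∀ c, In ⟪30⟫ c →
    Cond cd3 ⟪16⟫ ⟪30⟫ ⟪10⟫ ⟪23⟫ ⟪5⟫ ⟪32⟫ a b c → (a = ⟪23⟫ ∨ a = ⟪25⟫) ∧
    (b = ⟪37⟫ ∧ c = ⟪5⟫ ∨ b = ⟪53⟫ ∧ c = ⟪11⟫) := by decide +kernel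

omit [Finite G] in
theorem ex3 (su : Su φ ⟪16⟫) (h : Fz φ ⟪16⟫ ⟪30⟫) : ∃ y, Y3 φ ⟪16⟫ ⟪30⟫ ⟪10⟫ y ∧ ∃ a b c, ((a = ⟪23⟫ ∨ a = ⟪25⟫) ∧
    (b = ⟪37⟫ ∧ c = ⟪5⟫ ∨ b = ⟪53⟫ ∧ c = ⟪11⟫)) ∧ Cj φ y ⟪23⟫ a ∧ Cj φ y ⟪5⟫ b ∧ Cj φ y ⟪32⟫ c := by
  obtain ⟨g, g1, g2⟩ := su.sym hM h (by decide) (p := ⟪23⟫ * ⟪5⟫) (q := ⟪23⟫) (by decide +kernel) (by decide +kernel)
    (by decide +kernel)
  obtain ⟨y, hy⟩ := su.exists_Y3 g1 g2 (j := ⟪10⟫) (by decide +kernel) (by decide +kernel) (by decide +kernel) (by decide +kernel)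
  obtain ⟨a, a1, b, b1, c, c1, h, a2, b2, c2⟩ := su.exists_rho hy hcd3
  exact ⟨y, hy, a, b, c, sols3 a a1 b b1 (((a2.mul b2).mul (a2.mul b2)).uniq su.inj (hy.yz.cast (by decide +kernel) rfl))
    c c1 h, a2, b2, c2⟩

/-- An elementary abelian normal subgroup of order eight. -/
abbrev V : Subgroup HA := sg (bm 0x84218421) (by decide +kernel)
/-- Another elementary abelian normal subgroup of order eight. -/
abbrev V2 : Subgroup HA := sg (bm 0x28412841) (by decide +kernel)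
/-- The elementary abelian subgroup of order sixteen. -/
abbrev A : Subgroup HA := sg (bm 0x4821482148214821) (by decide +kernel)

theorem one (su : Su φ ⟪16⟫) (h5 : Fz φ ⟪16⟫ ⟪5⟫) (n11 : ¬ Fz φ ⟪16⟫ ⟪11⟫) (n30 : ¬ Fz φ ⟪16⟫ ⟪30⟫) : NV G := by
  obtain ⟨y, hy, a, b, c, h, h1, h2, h3⟩ := ex1 su h5
  have n14 : ¬ Fz φ ⟪16⟫ ⟪14⟫ := fun e => n30 (e.cj ((Cj.of ⟪1⟫ ⟪30⟫).cast rfl (by decide +kernel)).symm)
  have h4 := Cj.rho (cd := cd1) (h := ⟪14⟫) h1 h2 h3 (by decide +kernel)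
  have n : ¬ Fz φ ⟪16⟫ ⟪32⟫ ∧ ¬ Fz φ ⟪16⟫ ⟪48⟫ := by
    rcases h with ⟨rfl | rfl, ⟨rfl, rfl⟩ | ⟨rfl, rfl⟩⟩
    · exact ⟨fun e => n11 (e.cj h2.symm), fun e => n14 (e.cj (h4.cast rfl (by decide +kernel)).symm)⟩
    · exact ⟨fun e => n14 (e.cj (h4.cast rfl (by decide +kernel)).symm), fun e => n11 (e.cj h2.symm)⟩
    · exact ⟨fun e => n11 (e.cj h2.symm), fun e => n14 (e.cj (h4.cast rfl (by decide +kernel)).symm)⟩
    · exact ⟨fun e => n14 (e.cj (h4.cast rfl (by decide +kernel)).symm), fun e => n11 (e.cj h2.symm)⟩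
  clear h4
  refine su.nv (fun _ => HA.inj) (sylT su) card ((card_sg _ _).trans (by decide +kernel)) (V := V) (s := ⟪5⟫) (X := ⟪160⟫)
    (fun a => (by decide +kernel : ∀ a ∈ V, a ∈ T) a) (fun h => ⟨fun e => ⟨?_, (su.fz_sq e).2⟩, fun e => ?_⟩)
    (Ac.tab (cd := cd1) h1 h2 h3 (f := tf (if a = ⟪10⟫ then 0x1a000000000f000000001000000000051f000000000a00000000150000000000
      else 0xf000000001a000000001000000000050a000000001f00000000150000000000)) ?_) hy.y3 ?_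
  · rcases cls h (su.fz_sq e).1 with rfl | rfl | ⟨k, rfl | rfl | rfl | rfl | rfl⟩
    · exact one_mem _
    · decide +kernel
    · exact (by decide +kernel : ∀ k, k * ⟪5⟫ * k⁻¹ ∈ V) k
    exacts [absurd e.of_conj n11, absurd e.of_conj n30, absurd e.of_conj n.1, absurd e.of_conj n.2]
  · rcases (by decide +kernel : ∀ h ∈ V, h = 1 ∨ h = ⟪16⟫ ∨ ∃ k, k * ⟪5⟫ * k⁻¹ = h) h e.1 with rfl | rfl | ⟨k, rfl⟩
    exacts [absurd rfl e.2, Fz.refl, h5.conj k]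
  all_goals rcases h with ⟨rfl | rfl, ⟨rfl, rfl⟩ | ⟨rfl, rfl⟩⟩ <;> decide +kernel

/-- Action of the first element on `A`. -/
def f1 : HA → HA := tf 0xe00001e00000000003b000000003e001b00000b00000000002e000000002b0035000025000000000010000000000500300000200000000000150000000000
/-- Action of the second element on `A`. -/
def f2 : HA → HA := tf 0xe00003500000000001e000000003e001500002e0000000000050000000025003b00001000000000002b000000000b003000001b0000000000200000000000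

/-- The standard first element. -/
structure S1 (φ : HA →* G) (y : G) : Prop where
  y3 : Y3 φ ⟪16⟫ ⟪5⟫ ⟪13⟫ y
  a : Cj φ y ⟪10⟫ ⟪10⟫
  b : Cj φ y ⟪11⟫ ⟪32⟫
  c : Cj φ y ⟪32⟫ ⟪43⟫

/-- The standard second element. -/
structure S2 (φ : HA →* G) (w : G) : Prop where
  y3 : Y3 φ ⟪16⟫ ⟪11⟫ ⟪10⟫ w
  a : Cj φ w ⟪13⟫ ⟪13⟫
  b : Cj φ w ⟪5⟫ ⟪32⟫
  c : Cj φ w ⟪32⟫ ⟪37⟫

omit [Finite G] in
theorem S1.ac (h : S1 φ y) : Ac φ (· ∈ A) y f1 := Ac.tab (cd := cd1) h.a h.b h.c (by decide +kernel)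
omit [Finite G] in
theorem S2.ac (h : S2 φ w) : Ac φ (· ∈ A) w f2 := Ac.tab (cd := cd2) h.a h.b h.c (by decide +kernel)

omit [Finite G] in
theorem no_fix (su : Su φ ⟪16⟫) {g : G} {f : HA → HA} (h : Ac φ (· ∈ A) g f)
    (e : f ⟪16⟫ = ⟪16⟫ ∧ ∀ k, ∃ p ∈ [⟪5⟫, ⟪11⟫, ⟪32⟫], k * p * k⁻¹ ≠ f p) : False := by
  obtain ⟨k, -, hk⟩ := h.fix su (by decide +kernel) e.1
  obtain ⟨p, p1, p2⟩ := e.2 k
  exact p2 (hk p ((by decide +kernel : ∀ p ∈ [⟪5⟫, ⟪11⟫, ⟪32⟫], p ∈ A) p p1))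

omit [Finite G] in
theorem exS2 (su : Su φ ⟪16⟫) (h : S1 φ y) (h11 : Fz φ ⟪16⟫ ⟪11⟫) : ∃ w, S2 φ w := by
  obtain ⟨w, hw, a, b, c, e, h1, h2, h3⟩ := ex2 su h11
  have k : ∀ {w}, Y3 φ ⟪16⟫ ⟪11⟫ ⟪10⟫ w → Cj φ w ⟪13⟫ ⟪13⟫ → Cj φ w ⟪5⟫ ⟪48⟫ → Cj φ w ⟪32⟫ ⟪46⟫ → False := fun hw h1 h2 h3 => by
    have a := Ac.tab (S := (· ∈ A)) (cd := cd2) h1 h2 h3 (f := tf 0x1500003e0000000000050000000035000e00002500000000001e000000002e002b00001000000000003b000000000b002000001b0000000000300000000000) (by decide +kernel)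
    exact no_fix su (h.ac.mul (a.mul (h.ac.mul (a.mul h.ac)))) (by decide +kernel)
  have hw' := hw.conj (k := ⟪5⟫) (by decide +kernel) (by decide +kernel) (by decide +kernel)
  have k2 := fun h e => (Cj.rho (cd := cd2) (h := h) h1 h2 h3 (hcd2.2 h e)).conj ⟪5⟫
  rcases e with ⟨rfl | rfl, ⟨rfl, rfl⟩ | ⟨rfl, rfl⟩⟩
  · exact ⟨w, hw, h1, h2, h3⟩
  · exact (k hw h1 h2 h3).elim
  · exact ⟨_, hw', (k2 ⟪29⟫ (by decide +kernel)).cast (by decide +kernel) (by decide +kernel),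
      (k2 ⟪5⟫ (by decide +kernel)).cast (by decide +kernel) (by decide +kernel),
      (k2 ⟪32⟫ (by decide +kernel)).cast (by decide +kernel) (by decide +kernel)⟩
  · exact (k hw' ((k2 ⟪29⟫ (by decide +kernel)).cast (by decide +kernel) (by decide +kernel))
      ((k2 ⟪5⟫ (by decide +kernel)).cast (by decide +kernel) (by decide +kernel))
      ((k2 ⟪32⟫ (by decide +kernel)).cast (by decide +kernel) (by decide +kernel))).elim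

omit [Finite G] in
theorem not30 (su : Su φ ⟪16⟫) (h : S1 φ y) (h' : S2 φ w) : ¬ Fz φ ⟪16⟫ ⟪30⟫ := fun h30 => by
  obtain ⟨u, -, a, b, c, e, h1, h2, h3⟩ := ex3 su h30
  obtain ⟨e, ⟨rfl, rfl⟩ | ⟨rfl, rfl⟩⟩ := e
  · have a := Ac.tab (S := (· ∈ A)) (cd := cd3) h1 h2 h3 (f := tf 0x1b00003000000000003e000000000b001500002e0000000000200000000005000e00003500000000002b000000001e001000003b0000000000250000000000) (by rcases e with rfl | rfl <;> decide +kernel)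
    exact no_fix su (h.ac.mul (h.ac.mul (h'.ac.mul (a.mul h.ac)))) (by decide +kernel)
  · have a := Ac.tab (S := (· ∈ A)) (cd := cd3) h1 h2 h3 (f := tf 0x1500003e0000000000300000000005001b00002000000000002e000000000b000e00002500000000003b000000001e001000002b0000000000350000000000) (by rcases e with rfl | rfl <;> decide +kernel)
    exact no_fix su (h.ac.mul (h'.ac.mul (h'.ac.mul (a.mul h'.ac)))) (by decide +kernel)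

omit [Finite G] in
theorem exists_comm (su : Su φ ⟪16⟫) (h : S1 φ y) (h' : S2 φ w) : ∃ y, S1 φ y ∧ y * w = w * y := by
  have yi : y⁻¹ = y * y := inv_eq_of_mul_eq_one_left h.y3.y3
  have wi : w⁻¹ = w * w := inv_eq_of_mul_eq_one_left h'.y3.y3
  obtain ⟨a, h1, h2⟩ := (h'.ac.mul (h.ac.mul ((h'.ac.mul h'.ac).mul (h.ac.mul h.ac)))).fix su (by decide +kernel)
    (by decide +kernel)
  rw [← yi, ← wi] at h1
  have h3 : w * y * w⁻¹ = φ a * y := by rw [h1]; group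
  have aA : a ∈ A := (by decide +kernel : ∀ a, a * ⟪5⟫ * a⁻¹ = ⟪5⟫ → a * ⟪11⟫ * a⁻¹ = ⟪11⟫ → a ∈ A) a
    ((h2 _ (by decide +kernel)).trans (by decide +kernel)) ((h2 _ (by decide +kernel)).trans (by decide +kernel))
  have i1 := h.y3.inv (by decide +kernel)
  have i2 := h'.y3.inv (by decide +kernel)
  have c1 : φ ⟪10⟫ * y * (φ ⟪10⟫)⁻¹ = y := mul_inv_eq_iff_eq_mul.2 h.a.comm.symm
  have c2 : φ ⟪13⟫ * w * (φ ⟪13⟫)⁻¹ = w := mul_inv_eq_iff_eq_mul.2 h'.a.comm.symm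
  have e1 : Cj φ y (⟪13⟫ * a * ⟪13⟫⁻¹) a⁻¹ := by
    have := congrArg (fun g => φ ⟪13⟫ * g * (φ ⟪13⟫)⁻¹) h3
    simp only [← conj_mul (b := φ ⟪13⟫), ← conj_inv, i1, c2] at this
    rw [Cj, ← Cj.of, map_inv, mul_assoc, ← this, eq_mul_inv_of_mul_eq h3.symm]; group
  have e2 : Cj φ w (⟪10⟫ * a * ⟪10⟫⁻¹) a⁻¹ := by
    have := congrArg (fun g => φ ⟪10⟫ * g * (φ ⟪10⟫)⁻¹) h3
    simp only [← conj_mul (b := φ ⟪10⟫), ← conj_inv, i2, c1] at this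
    rw [Cj, ← Cj.of, map_inv, eq_mul_inv_of_mul_eq this.symm, eq_mul_inv_of_mul_eq h3.symm]; group
  have nA := (by decide +kernel : ∀ a ∈ A, ⟪13⟫ * a * ⟪13⟫⁻¹ ∈ A ∧ ⟪10⟫ * a * ⟪10⟫⁻¹ ∈ A) a aA
  rcases (by decide +kernel : ∀ a ∈ A, f1 (⟪13⟫ * a * ⟪13⟫⁻¹) = a⁻¹ → f2 (⟪10⟫ * a * ⟪10⟫⁻¹) = a⁻¹ → a = 1 ∨ a = ⟪46⟫) a aA
    ((h.ac _ nA.1).2.uniq su.inj e1) ((h'.ac _ nA.2).2.uniq su.inj e2) with rfl | rfl
  · exact ⟨y, h, (mul_inv_eq_iff_eq_mul.1 (by rw [h3, map_one, one_mul])).symm⟩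
  refine ⟨_, ⟨h.y3.conj (k := ⟪16⟫) (by decide +kernel) (by decide +kernel) (by decide +kernel),
    (h.a.conj _).cast (by decide +kernel) (by decide +kernel), (h.b.conj _).cast (by decide +kernel) (by decide +kernel),
    (h.c.conj _).cast (by decide +kernel) (by decide +kernel)⟩, (mul_inv_eq_iff_eq_mul.1 ?_).symm⟩
  have e3 : φ ⟪16⟫ * y * (φ ⟪16⟫)⁻¹ = φ (⟪16⟫ * ⟪5⟫⁻¹) * y := by rw [map_mul, ← h.y3.yz.inv, map_inv]; group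
  rw [e3, ← conj_mul, h3, (h'.ac _ (by decide +kernel)).2, ← mul_assoc, ← map_mul]
  exact congrArg (fun p => φ p * y) (by decide +kernel)

theorem pow4 (su : Su φ ⟪16⟫) {V : Subgroup HA} {g : G} {f : HA → HA} (h : Ac φ (· ∈ V) g f)
    (e : ⟪16⟫ ∈ V ∧ (∀ v ∈ V, f (f (f (f v))) = v) ∧ ∀ k, (∀ v ∈ V, k * v * k⁻¹ = v) → k * k = 1) : g ^ 4 = 1 := by
  obtain ⟨k, h1, h2⟩ := (h.mul (h.mul (h.mul h))).fix su e.1 (e.2.1 _ e.1)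
  have h3 := congrArg φ (e.2.2 k fun v hv => (h2 v hv).trans (e.2.1 v hv))
  obtain ⟨u, -, p, hp, e⟩ := exists_cj (sylT su) (mem_top g) (n := 3) (by
    rw [map_mul, h1, map_one] at h3
    rw [← h3]; simp only [pow_succ, pow_zero, one_mul, mul_assoc, Nat.reduceMul])
  rw [← conj_eq_one_iff (a := u), ← conj_pow, e, ← map_pow, (by decide +kernel : ∀ p ∈ T, p ^ 4 = 1) p hp, map_one]

theorem y8 (su : Su φ ⟪16⟫) (h : S1 φ y) (h' : S2 φ w) (e : y * w = w * y) : Y8 φ y w :=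
  ⟨h.y3.y3, h.a, h.b, h.c, h.y3.jy, h'.y3.y3, h'.a, h'.b, h'.c, h'.y3.jy,
    pow4 su (V := V) ((Ac.of ⟪64⟫ (by decide +kernel)).mul (Ac.tab (cd := cd1) h.a h.b h.c
      (f := tf 0x1a000000000f000000001000000000051f000000000a00000000150000000000) (by decide +kernel))) (by decide +kernel),
    pow4 su (V := V2) ((Ac.of ⟪64⟫ (by decide +kernel)).mul (Ac.tab (cd := cd2) h'.a h'.b h'.c
      (f := tf 0x60010000000001d00000000000b00000d001b0000000016000000000000) (by decide +kernel))) (by decide +kernel), e⟩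

end HA

end Cfsg.Lib.X32
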