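import Cfsg.Agent.Lib.X32.Hom

/-!
# Conjugation action on the image of a model
-/

namespace Cfsg.Lib.X32

universe u

variable {G : Type u} [Group G] {M : Type} [Group M] {φ : M →* G} {y y' : G} {p q r p' q' z s j : M}

/-- `y` conjugates `φ p` to `φ q`. -/
def Cj (φ : M →* G) (y : G) (p q : M) : Prop := y * φ p * y⁻¹ = φ q

namespace Cj

theorem one : Cj φ y 1 1 := by simp [Cj]
theorem mul (h : Cj φ y p q) (h' : Cj φ y p' q') : Cj φ y (p * p') (q * q') := by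
  unfold Cj at *; rw [map_mul, map_mul, ← h, ← h']; group
theorem inv (h : Cj φ y p q) : Cj φ y p⁻¹ q⁻¹ := by
  unfold Cj at *; rw [map_inv, map_inv, ← h]; group
theorem comp (h : Cj φ y p q) (h' : Cj φ y' q r) : Cj φ (y' * y) p r := by
  unfold Cj at *; rw [← h', ← h]; group
theorem of (h p : M) : Cj φ (φ h) p (h * p * h⁻¹) := by simp [Cj]
theorem symm (h : Cj φ y p q) : Cj φ y⁻¹ q p := by
  unfold Cj at *; rw [← h]; group
theorem uniq (hi : Function.Injective φ) (h : Cj φ y p q) (h' : Cj φ y p q') : q = q' := hi (Eq.trans (Eq.symm h) h')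
theorem id : Cj φ 1 p p := by simp [Cj]
theorem cast (h : Cj φ y p q) (e : p = p') (e' : q = q') : Cj φ y p' q' := e ▸ e' ▸ h
theorem cast' (h : Cj φ y p q) (e : y = y') : Cj φ y' p q := e ▸ h
theorem evc {g g' : ℕ → M} (h : ∀ x < 16, Cj φ y (g x) (g' x)) (n c : ℕ) : Cj φ y (evc g n c) (evc g' n c) :=
  evc_rel (Cj φ y) one (fun _ _ _ _ => mul) h n c
theorem isConj (h : Cj φ y p q) : IsConj (φ p) (φ q) := isConj_iff.2 ⟨y, h⟩
theorem comm (h : Cj φ y p p) : y * φ p = φ p * y := mul_inv_eq_iff_eq_mul.1 h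
theorem of_comm (h : y * φ p = φ p * y) : Cj φ y p p := mul_inv_eq_iff_eq_mul.2 h
/-- Conjugating the acting element by an element of the model. -/
theorem conj (h : Cj φ y p q) (k : M) : Cj φ (φ k * y * (φ k)⁻¹) (k * p * k⁻¹) (k * q * k⁻¹) :=
  (((of k p).symm.comp h).comp (of k q)).cast' (by group)

end Cj

/-- The model is the centraliser of `φ z`. -/
structure Su (φ : M →* G) (z : M) : Prop where
  inj : Function.Injective φ
  cen : ∀ g, g * φ z = φ z * g → ∃ h, φ h = g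
  zc : ∀ h, h * z = z * h
  zz : z * z = 1
  z1 : z ≠ 1

/-- Fusion with `z`. -/
def Fz (φ : M →* G) (z h : M) : Prop := IsConj (φ z) (φ h)

theorem Fz.cj (h : Fz φ z p) (e : Cj φ y p q) : Fz φ z q := IsConj.trans h e.isConj
theorem Fz.conj (h : Fz φ z p) (k : M) : Fz φ z (k * p * k⁻¹) := h.cj (.of k p)
theorem Fz.of_conj {k : M} (h : Fz φ z (k * p * k⁻¹)) : Fz φ z p := h.cj (Cj.of k p).symm
theorem Fz.refl : Fz φ z z := IsConj.refl _

/-- An element of order three permuting `z, s, sz`, inverted by `j`. -/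
structure Y3 (φ : M →* G) (z s j : M) (y : G) : Prop where
  y3 : y * y * y = 1
  jy : y * φ j * (y * φ j) = 1
  yz : Cj φ y z s
  ys : Cj φ y s (s * z)

theorem Y3.conj (h : Y3 φ z s j y) {k : M} (h1 : k * z * k⁻¹ = z) (h2 : k * s * k⁻¹ = s) (h3 : k * j * k⁻¹ = j) :
    Y3 φ z s j (φ k * y * (φ k)⁻¹) where
  y3 := by rw [conj_mul, conj_mul, h.y3]; group
  jy := by
    have := Cj.of (φ := φ) k j
    rw [h3] at this
    rw [← this, conj_mul, conj_mul, h.jy]; group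
  yz := (h.yz.conj k).cast h1 h2
  ys := (h.ys.conj k).cast h2 (by rw [← conj_mul, h1, h2])

namespace Su

variable (su : Su φ z)
include su

theorem eq (h : φ p = φ q) : p = q := su.inj h

theorem fz_sq (h : Fz φ z p) : p * p = 1 ∧ p ≠ 1 := by
  obtain ⟨g, hg⟩ := isConj_iff.1 h
  refine ⟨su.eq ?_, fun e => su.z1 (su.eq ?_)⟩
  · rw [map_mul, ← hg, conj_mul, ← map_mul, su.zz]; simp
  · rw [e, map_one, conj_eq_one_iff] at hg; rw [hg, map_one]

theorem sym (hM : ∀ a b : M, a * b * a⁻¹ * b⁻¹ * (a * b * a⁻¹ * b⁻¹) = 1 → a * b * a⁻¹ * b⁻¹ = 1 ∨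
      a * b * a⁻¹ * b⁻¹ = z ∨ ∃ k, k * (a * b * a⁻¹ * b⁻¹) * k⁻¹ = a * b * a⁻¹ * b⁻¹ * z)
    (hs : Fz φ z s) (sz : s ≠ z) (p1 : p * s = s * p) (p2 : q * s = s * q) (pq : p * q * p⁻¹ * q⁻¹ = z) :
    ∃ g, Cj φ g s s ∧ Cj φ g z (s * z) := by
  obtain ⟨g, hg⟩ := isConj_iff.1 hs
  have k : ∀ p : M, p * s = s * p → ∃ a, Cj φ g a p := fun p hp => by
    obtain ⟨a, ha⟩ := su.cen (g⁻¹ * φ p * g) (by
      have := congrArg φ hp
      rw [map_mul, map_mul, ← hg] at this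
      calc _ = g⁻¹ * (φ p * (g * φ z * g⁻¹)) * g := by group
        _ = _ := by rw [this]; group)
    exact ⟨a, by rw [Cj, ha]; group⟩
  obtain ⟨a, ha⟩ := k p p1
  obtain ⟨b, hb⟩ := k q p2
  have h1 := (((ha.mul hb).mul ha.inv).mul hb.inv).cast rfl pq
  have hg' : Cj φ g z s := hg
  rcases hM a b (((h1.mul h1).cast rfl su.zz).symm.uniq su.inj Cj.one) with e | e | ⟨k, e⟩
  · exact absurd ((h1.cast e rfl).uniq su.inj Cj.one) su.z1
  · exact absurd (hg'.uniq su.inj (h1.cast e rfl)) sz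
  · refine ⟨_, (hg'.symm.comp ((Cj.of k z).cast rfl (by rw [su.zc, mul_inv_cancel_right]))).comp hg',
      (h1.symm.comp ((Cj.of k _).cast rfl e)).comp ((h1.mul hg').cast rfl (su.zc s).symm)⟩

theorem exists_Y3 {g : G} (h1 : Cj φ g s s) (h2 : Cj φ g z (s * z)) (ss : s * s = 1) (jj : j * j = 1)
    (js : j * s * j⁻¹ = s * z) (he : ∀ h : M, h * s = s * h → h * h * (h * h) * (h * h * (h * h)) = 1) :
    ∃ y, Y3 φ z s j y := by
  have jz : Cj φ (φ j) z z := (Cj.of j z).cast rfl (by rw [su.zc, mul_inv_cancel_right])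
  have j1 : Cj φ (φ j) s (s * z) := (Cj.of j s).cast rfl js
  have e1 : s * z * z = s := by rw [mul_assoc, su.zz, mul_one]
  have e2 : s * (s * z) = z := by rw [← mul_assoc, ss, one_mul]
  have e3 : s * z * s = z := by rw [mul_assoc, ← su.zc, e2]
  have j2 : Cj φ (φ j) (s * z) s := (j1.mul jz).cast rfl e1
  have h3 : Cj φ g (s * z) z := (h1.mul h2).cast rfl e2
  -- `w = j * (g j g⁻¹)`-type element
  set i := (g * φ j)⁻¹ * φ j * (g * φ j) with hi
  have ii : i * i = 1 := by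
    rw [hi, show ∀ a b : G, a⁻¹ * b * a * (a⁻¹ * b * a) = a⁻¹ * (b * b) * a from fun a b => by group, ← map_mul, jj]
    simp
  have jj' : φ j * φ j = 1 := by rw [← map_mul, jj, map_one]
  have t1 : Cj φ (g * φ j) z (s * z) := jz.comp h2
  have t2 : Cj φ (g * φ j) s z := j1.comp h3
  have t3 : Cj φ (g * φ j) (s * z) s := j2.comp h1
  have i1 : Cj φ i z (s * z) := by rw [hi, mul_assoc]; exact (t1.comp j2).comp t3.symm
  have i2 : Cj φ i (s * z) z := by rw [hi, mul_assoc]; exact (t3.comp j1).comp t1.symm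
  have i3 : Cj φ i s s := by rw [hi, mul_assoc]; exact (t2.comp jz).comp t2.symm
  set w := φ j * i with hw
  have w1 : Cj φ w z s := i1.comp j2
  have w2 : Cj φ w s (s * z) := i3.comp j1
  have w3 : Cj φ w (s * z) z := i2.comp jz
  have c1 : Cj φ (w * (w * w)) z z := (w1.comp w2).comp w3
  have c2 : Cj φ (w * (w * w)) s s := (w2.comp w3).comp w1
  obtain ⟨h, hh⟩ := su.cen _ c1.comm
  have h8 := congrArg φ (he h (su.eq (by rw [map_mul, map_mul, hh, c2.comm])))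
  simp only [map_mul, hh, map_one] at h8
  have wj : φ j * w * (φ j)⁻¹ = w⁻¹ := by
    rw [hw, ← mul_assoc, jj', one_mul, mul_inv_rev, inv_eq_of_mul_eq_one_right ii]
  have cw : ∀ n : ℕ, Cj φ (w ^ (3 * n)) z z ∧ Cj φ (w ^ (3 * n)) s s := fun n => by
    induction n with
    | zero => exact ⟨Cj.id.cast' (pow_zero w).symm, Cj.id.cast' (pow_zero w).symm⟩
    | succ n ih =>
      rw [show w ^ (3 * (n + 1)) = w * (w * w) * w ^ (3 * n) by group]
      exact ⟨ih.1.comp c1, ih.2.comp c2⟩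
  have w24 : w ^ 24 = 1 := by rw [← h8]; simp only [pow_succ, pow_zero, one_mul, mul_assoc]
  refine ⟨w ^ 16, by rw [← pow_add, ← pow_add, show 16 + 16 + 16 = 24 * 2 from rfl, pow_mul, w24, one_pow], ?_, ?_, ?_⟩
  · rw [show w ^ 16 * φ j * (w ^ 16 * φ j) = w ^ 16 * (φ j * w ^ 16 * (φ j)⁻¹) * (φ j * φ j) by group, ← conj_pow, wj, jj']
    group
  · rw [show w ^ 16 = w * w ^ (3 * 5) by group]; exact (cw 5).1.comp w1
  · rw [show w ^ 16 = w * w ^ (3 * 5) by group]; exact (cw 5).2.comp w2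

theorem norm (hy : Y3 φ z s j y) (hp : p * s = s * p) (ss : s * s = 1) : ∃ q, q * s = s * q ∧ Cj φ y p q := by
  have a1 := hy.yz.mul hy.ys
  have e : z * s * p = p * (z * s) := by rw [← mul_assoc, su.zc p, mul_assoc, mul_assoc, hp]
  obtain ⟨q, hq⟩ := su.cen (y * φ p * y⁻¹) (by
    rw [← mul_assoc s, ss, one_mul] at a1
    rw [← a1, conj_mul, conj_mul, ← map_mul, ← map_mul, e])
  have h1 : Cj φ y p q := hq.symm
  exact ⟨q, (h1.mul hy.yz).uniq su.inj ((hy.yz.mul h1).cast (su.zc p).symm rfl), h1⟩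

end Su

/-- Three letters. -/
def l3 (a b c : M) (n : ℕ) : M := [1, a, b, c].getD n 1

theorem l3_rel {N : Type} [Group N] {a b c : M} {a' b' c' : N} (R : M → N → Prop) (h : R 1 1) (h1 : R a a') (h2 : R b b')
    (h3 : R c c') (x : ℕ) : R (l3 a b c x) (l3 a' b' c' x) := by
  rcases x with _ | _ | _ | _ | x <;> simpa [l3]

/-- The map with given images of three generators. -/
def rho (cd : M → ℕ) (a b c h : M) : M := evc (l3 a b c) 6 (cd h)

theorem Cj.rho {cd : M → ℕ} {a b c a' b' c' h : M} (h1 : Cj φ y a a') (h2 : Cj φ y b b') (h3 : Cj φ y c c')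
    (e : rho cd a b c h = h) : Cj φ y h (rho cd a' b' c' h) :=
  (Cj.evc (fun x _ => l3_rel (Cj φ y) Cj.one h1 h2 h3 x) _ _).cast e rfl

/-- An involution or the identity centralising `s`. -/
def In (s a : M) : Prop := a * s = s * a ∧ a * a = 1

instance [DecidableEq M] (s a : M) : Decidable (In s a) := by unfold In; infer_instance

/-- Necessary conditions on the images of the generators. -/
def Cond (cd : M → ℕ) (z s j a b c a' b' c' : M) : Prop :=
  rho cd a' b' c' z = s ∧ rho cd a' b' c' s = s * z ∧ rho cd a' b' c' (rho cd a' b' c' a') = a ∧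
  rho cd a' b' c' (rho cd a' b' c' b') = b ∧ rho cd a' b' c' (rho cd a' b' c' c') = c ∧
  j * rho cd a' b' c' (j * a' * j⁻¹) * j⁻¹ = a ∧ j * rho cd a' b' c' (j * b' * j⁻¹) * j⁻¹ = b ∧
  j * rho cd a' b' c' (j * c' * j⁻¹) * j⁻¹ = c

instance [DecidableEq M] (cd : M → ℕ) (z s j a b c a' b' c' : M) : Decidable (Cond cd z s j a b c a' b' c') := by
  unfold Cond; infer_instance

theorem Su.exists_rho (su : Su φ z) (hy : Y3 φ z s j y) {cd : M → ℕ} {a b c : M}
    (hc : (s * s = 1 ∧ j * s * j⁻¹ = s * z ∧ j * j = 1 ∧ In s a ∧ In s b ∧ In s c) ∧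
      ∀ h, h * s = s * h → rho cd a b c h = h) :
    ∃ a', In s a' ∧ ∃ b', In s b' ∧ ∃ c', In s c' ∧ Cond cd z s j a b c a' b' c' ∧
      Cj φ y a a' ∧ Cj φ y b b' ∧ Cj φ y c c' := by
  obtain ⟨⟨ss, js, jj, ha, hb, hc⟩, hcd⟩ := hc
  have k : ∀ p, In s p → ∃ q, In s q ∧ Cj φ y p q := fun p hp => by
    obtain ⟨q, h1, h2⟩ := su.norm hy hp.1 ss
    exact ⟨q, ⟨h1, ((h2.mul h2).cast hp.2 rfl).uniq su.inj Cj.one⟩, h2⟩
  obtain ⟨a', a1, a2⟩ := k a ha
  obtain ⟨b', b1, b2⟩ := k b hb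
  obtain ⟨c', c1, c2⟩ := k c hc
  have r : ∀ h, h * s = s * h → Cj φ y h (rho cd a' b' c' h) := fun h e => Cj.rho a2 b2 c2 (hcd h e)
  have r1 : ∀ h, h * s = s * h → rho cd a' b' c' h * s = s * rho cd a' b' c' h := fun h e => by
    obtain ⟨q, h1, h2⟩ := su.norm hy e ss
    rwa [(r h e).uniq su.inj h2]
  have k3 : ∀ p q, Cj φ y p q → In s q → rho cd a' b' c' (rho cd a' b' c' q) = p := fun p q h1 h2 => by
    have := (h1.comp (r q h2.1)).comp (r _ (r1 q h2.1))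
    rw [← mul_assoc, hy.y3] at this
    exact this.uniq su.inj Cj.id
  have k4 : ∀ p q, Cj φ y p q → In s q → j * rho cd a' b' c' (j * q * j⁻¹) * j⁻¹ = p := fun p q h1 h2 => by
    have e : j * q * j⁻¹ * s = s * (j * q * j⁻¹) := by
      have e1 : s = j * (s * z) * j⁻¹ := by
        rw [← js, ← mul_assoc, ← mul_assoc, jj, one_mul, mul_assoc, ← mul_inv_rev, jj, inv_one, mul_one]
      rw [e1, conj_mul, conj_mul, ← mul_assoc q, h2.1, mul_assoc s, su.zc q, mul_assoc s]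
    have := ((h1.comp (Cj.of j q)).comp (r _ e)).comp (Cj.of j _)
    have e2 : φ j * (y * (φ j * y)) = 1 := by
      rw [show φ j * (y * (φ j * y)) = y⁻¹ * (y * φ j * (y * φ j)) * (φ j)⁻¹ * φ j * y * y⁻¹ * (φ j)⁻¹ * (φ j * y) by group, hy.jy]
      group
    rw [e2] at this
    exact this.uniq su.inj Cj.id
  exact ⟨a', a1, b', b1, c', c1, ⟨(r z (su.zc s).symm).uniq su.inj hy.yz, (r s rfl).uniq su.inj hy.ys, k3 _ _ a2 a1,
    k3 _ _ b2 b1, k3 _ _ c2 c1, k4 _ _ a2 a1, k4 _ _ b2 b1, k4 _ _ c2 c1⟩, a2, b2, c2⟩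

/-- `y` acts on the image of `S` as `f`. -/
def Ac (φ : M →* G) (S : M → Prop) (y : G) (f : M → M) : Prop := ∀ h, S h → S (f h) ∧ Cj φ y h (f h)

namespace Ac

variable {S : M → Prop} {f f' : M → M}

theorem mul (h : Ac φ S y f) (h' : Ac φ S y' f') : Ac φ S (y * y') fun p => f (f' p) := fun p hp =>
  ⟨(h _ (h' p hp).1).1, (h' p hp).2.comp (h _ (h' p hp).1).2⟩

theorem of (k : M) (h : ∀ p, S p → S (k * p * k⁻¹)) : Ac φ S (φ k) fun p => k * p * k⁻¹ := fun p hp => ⟨h p hp, .of k p⟩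

theorem rho {cd : M → ℕ} {a b c a' b' c' : M} (h1 : Cj φ y a a') (h2 : Cj φ y b b') (h3 : Cj φ y c c')
    (e : ∀ h, S h → rho cd a b c h = h ∧ S (rho cd a' b' c' h)) : Ac φ S y (rho cd a' b' c') := fun p hp =>
  ⟨(e p hp).2, Cj.rho h1 h2 h3 (e p hp).1⟩

/-- An element fixing `z` lies in the model and acts by conjugation. -/
theorem fix (su : Su φ z) (h : Ac φ S y f) (hz : S z) (e : f z = z) : ∃ k, φ k = y ∧ ∀ p, S p → k * p * k⁻¹ = f p := by
  obtain ⟨k, rfl⟩ := su.cen y ((h z hz).2.cast rfl e).comm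
  exact ⟨k, rfl, fun p hp => (Cj.of k p).uniq su.inj (h p hp).2⟩

end Ac

end Cfsg.Lib.X32
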