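import Cfsg.Agent.Lib.X32.HA
import Cfsg.Agent.Lib.X32.HB
import Cfsg.Agent.Lib.X32.HN
import Cfsg.Agent.Lib.Comp.XN.Main
import Cfsg.Agent.Lib.Comp.XA.Main
import Cfsg.Agent.Lib.Comp.XB.Main

/-!
# Homomorphisms from the table models
-/

set_option maxRecDepth 100000

namespace Cfsg.Lib.X32

open Cfsg.Lib.Comp

universe u

/-- The relations of `2^(1+4).3`. -/
def RN {G : Type*} [Group G] (a b c d x : G) : Prop :=
  a * a * (a * a) = 1 ∧ a * a = b * b ∧ a * a = c * c ∧ a * a = d * d ∧ a * b * a = b ∧ c * d * c = d ∧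
  a * c = c * a ∧ a * d = d * a ∧ b * c = c * b ∧ b * d = d * b ∧ x * x * x = 1 ∧
  x * a * x⁻¹ = b ∧ x * b * x⁻¹ = a * b ∧ x * c * x⁻¹ = d ∧ x * d * x⁻¹ = c * d

instance {G : Type*} [Group G] [DecidableEq G] (a b c d x : G) : Decidable (RN a b c d x) := by
  unfold RN; infer_instance

theorem RN.map {G Γ : Type*} [Group G] [Group Γ] (f : G →* Γ) {a b c d x : G} (h : RN a b c d x) :
    RN (f a) (f b) (f c) (f d) (f x) := by
  simp only [RN, ← map_mul, ← map_inv]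
  obtain ⟨h1, h2, h3, h4, h5, h6, h7, h8, h9, h10, h11, h12, h13, h14, h15⟩ := h
  exact ⟨by rw [h1, map_one], by rw [h2], by rw [h3], by rw [h4], by rw [h5], by rw [h6], by rw [h7], by rw [h8],
    by rw [h9], by rw [h10], by rw [h11, map_one], by rw [h12], by rw [h13], by rw [h14], by rw [h15]⟩

variable {G : Type u} [Group G] {a b c d x t : G}

/-- The letters. -/
def lt (a b c d x t : G) (n : ℕ) : G := [1, a, a⁻¹, b, b⁻¹, c, c⁻¹, d, d⁻¹, x, x⁻¹, t].getD n 1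

theorem ivOK_lt (ht : t * t = 1) : IvOK (lt a b c d x t) XA.iv := by
  have h1 : ∀ n < 64, XA.iv n < 64 ∧ (12 ≤ n → XA.iv n = n) := by decide +kernel
  have h2 : XA.iv 0 = 0 ∧ XA.iv 1 = 2 ∧ XA.iv 2 = 1 ∧ XA.iv 3 = 4 ∧ XA.iv 4 = 3 ∧ XA.iv 5 = 6 ∧ XA.iv 6 = 5 ∧
      XA.iv 7 = 8 ∧ XA.iv 8 = 7 ∧ XA.iv 9 = 10 ∧ XA.iv 10 = 9 ∧ XA.iv 11 = 11 := by decide +kernel
  refine ⟨rfl, fun n hn => ⟨(h1 n hn).1, ?_⟩⟩
  rcases le_or_gt 12 n with h3 | h3
  · rw [(h1 n hn).2 h3, lt, List.getD_eq_default _ _ (by simpa using h3), inv_one]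
  · interval_cases n <;> simp [h2, lt, inv_eq_of_mul_eq_one_right ht]

theorem RN.rels (h : RN a b c d x) : Rels (lt a b c d x t) XN.R := by
  obtain ⟨h1, h2, h3, h4, h5, h6, h7, h8, h9, h10, h11, h12, h13, h14, h15⟩ := h
  intro w hw
  simp only [XN.R, List.mem_cons, List.not_mem_nil, or_false] at hw
  rcases hw with rfl | rfl | rfl | rfl | rfl | rfl | rfl | rfl | rfl | rfl | rfl | rfl | rfl | rfl | rfl | rfl | rfl |
    rfl | rfl | rfl <;>
    simp only [ev, lt, List.map, List.prod_cons, List.prod_nil, List.getD_cons_succ, List.getD_cons_zero, mul_one,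
      zero_add, pow_succ, pow_zero, one_mul, ← mul_assoc, mul_inv_cancel, h5, h6, h7, h8, h9, h10, h11, h12, h13, h14, h15,
      mul_inv_cancel_right]
  · simpa only [mul_assoc] using h1
  · rw [h2]; group
  · rw [h3]; group
  · rw [h4]; group

theorem ev_evc {Γ : Type*} [Group Γ] {g : ℕ → Γ} {K : Subgroup Γ} (h : ∀ x < 16, g x ∈ K) (n c : ℕ) : evc g n c ∈ K :=
  evc_rel (g' := g) (fun p _ => p ∈ K) K.one_mem (fun _ _ _ _ => K.mul_mem) h n c

theorem hom_of_top {Γ : Type} [Group Γ] {γ : ℕ → Γ} {δ : ℕ → G} {iv : ℕ → ℕ} {R : List (List ℕ × ℕ)} {L : List ℕ} {n : ℕ}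
    (h : Ord.{u} iv R L n) (h1 : IvOK γ iv) (h2 : Rels γ R) (h3 : IvOK δ iv) (h4 : Rels δ R) (hn : Nat.card Γ = n)
    (hL : ∀ x < 16, x ∈ L ∨ γ x = 1) (hw : ∀ p, ∃ c, evc γ 8 c = p) : ∃ f : Γ →* G, ∀ x ∈ L, f (γ x) = δ x := by
  have e : cl γ L = ⊤ := eq_top_iff.2 fun p _ => by
    obtain ⟨c, rfl⟩ := hw p
    exact ev_evc (fun x hx => (hL x hx).elim mem_cl fun e => e ▸ one_mem _) _ _
  obtain ⟨f, hf⟩ := hom_of_ord.{0, u} h h1 h2 h3 h4 (by rw [e, Subgroup.card_top, hn])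
  refine ⟨f.comp ((MulEquiv.subgroupCongr e).trans Subgroup.topEquiv).symm.toMonoidHom, fun x hx => ?_⟩
  have := hf [x] (by simpa using hx)
  exact (by simpa [ev_single] using this : f ⟨γ x, mem_cl hx⟩ = δ x)

theorem exists_homN (h : RN a b c d x) : ∃ f : HN →* G, f (.el 1) = a ∧ f (.el 2) = b ∧ f (.el 4) = c ∧
    f (.el 8) = d ∧ f (.el 32) = x := by
  obtain ⟨f, hf⟩ := hom_of_top (γ := HN.gn) (δ := lt a b c d x 1) XN.ord (by unfold IvOK; decide +kernel)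
    (by unfold Rels; decide +kernel) (ivOK_lt (mul_one 1)) h.rels HN.card (by decide +kernel) fun p => ⟨_, HN.evc_wd p⟩
  exact ⟨f, hf 1 (by decide), hf 3 (by decide), hf 5 (by decide), hf 7 (by decide), hf 9 (by decide)⟩

theorem exists_homA (h : RN a b c d x) (h1 : t * t = 1) (h2 : t * x * (t * x) = 1) (h3 : t * a * t * c = 1)
    (h4 : t * c * t * a = 1) : ∃ f : HA →* G, f (.el 1) = a ∧ f (.el 2) = b ∧ f (.el 4) = c ∧
    f (.el 8) = d ∧ f (.el 64) = x ∧ f (.el 32) = t := by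
  have hr : Rels (lt a b c d x t) XA.R := fun w hw => by
    rcases (by decide +kernel : ∀ w ∈ XA.R, w ∈ XN.R ∨ w = ([11], 1) ∨ w = ([11, 9], 1) ∨ w = ([11, 1, 11, 5], 0) ∨
      w = ([11, 5, 11, 1], 0)) w hw with e | rfl | rfl | rfl | rfl
    · exact h.rels w e
    all_goals simp only [ev, lt, List.map, List.prod_cons, List.prod_nil, List.getD_cons_succ, List.getD_cons_zero, mul_one,
      zero_add, pow_succ, pow_zero, one_mul, h1, h2, ← mul_assoc t, ← mul_assoc (t * _), h3, h4]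
  obtain ⟨f, hf⟩ := hom_of_top (γ := HA.gn) XA.ord (by unfold IvOK; decide +kernel)
    (by unfold Rels; decide +kernel) (ivOK_lt h1) hr HA.card (by decide +kernel) fun p => ⟨_, HA.evc_wd p⟩
  exact ⟨f, hf 1 (by decide), hf 3 (by decide), hf 5 (by decide), hf 7 (by decide), hf 9 (by decide), hf 11 (by decide)⟩

theorem exists_homB (h : RN a b c d x) (h1 : t * t = 1) (h2 : t * x * (t * x) = 1) (h3 : t * a * (t * a) = 1)
    (h4 : t * c * (t * c) = 1) : ∃ f : HB →* G, f (.el 1) = a ∧ f (.el 2) = b ∧ f (.el 4) = c ∧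
    f (.el 8) = d ∧ f (.el 64) = x ∧ f (.el 32) = t := by
  have hr : Rels (lt a b c d x t) XB.R := fun w hw => by
    rcases (by decide +kernel : ∀ w ∈ XB.R, w ∈ XN.R ∨ w = ([11], 1) ∨ w = ([11, 9], 1) ∨ w = ([11, 1], 1) ∨
      w = ([11, 5], 1)) w hw with e | rfl | rfl | rfl | rfl
    · exact h.rels w e
    all_goals simp only [ev, lt, List.map, List.prod_cons, List.prod_nil, List.getD_cons_succ, List.getD_cons_zero, mul_one,
      pow_succ, pow_zero, one_mul, h1, h2, h3, h4]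
  obtain ⟨f, hf⟩ := hom_of_top (γ := HB.gn) XB.ord (by unfold IvOK; decide +kernel)
    (by unfold Rels; decide +kernel) (ivOK_lt h1) hr HB.card (by decide +kernel) fun p => ⟨_, HB.evc_wd p⟩
  exact ⟨f, hf 1 (by decide), hf 3 (by decide), hf 5 (by decide), hf 7 (by decide), hf 9 (by decide), hf 11 (by decide)⟩

theorem inj_of_nz {M : Type*} [Group M] {z : M} (l : List M) (nz : ∀ h : M, h = 1 ∨ h = z ∨ ∃ g ∈ l, h * g * h⁻¹ * g⁻¹ = z ∨
    ∃ k ∈ l, h * g * h⁻¹ * g⁻¹ * k * (h * g * h⁻¹ * g⁻¹)⁻¹ * k⁻¹ = z) {f : M →* G} (hz : f z ≠ 1) : Function.Injective f :=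
  (injective_iff_map_eq_one f).2 fun h e => by
    rcases nz h with h1 | rfl | ⟨g, -, rfl | ⟨k, -, rfl⟩⟩
    · exact h1
    all_goals simp [e] at hz

theorem HN.inj {f : HN →* G} (hz : f (.el 16) ≠ 1) : Function.Injective f :=
  inj_of_nz [.el 1, .el 2, .el 4, .el 8] (by decide +kernel) hz
theorem HA.inj {f : HA →* G} (hz : f (.el 16) ≠ 1) : Function.Injective f :=
  inj_of_nz [.el 1, .el 2, .el 4, .el 8] (by decide +kernel) hz
theorem HB.inj {f : HB →* G} (hz : f (.el 16) ≠ 1) : Function.Injective f :=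
  inj_of_nz [.el 1, .el 2, .el 4, .el 8] (by decide +kernel) hz

end Cfsg.Lib.X32
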