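import Cfsg.Agent.Lib.X32.NV

/-!
# Facts about the table models
-/

set_option maxRecDepth 100000
set_option synthInstance.maxSize 100000

namespace Cfsg.Lib.X32

open Subgroup Cfsg.Lib.Transfer Cfsg.Lib.Invol

universe u

variable {G : Type u} [Group G]

section generic

variable {M : Type} [Group M] {φ : M →* G} {z s p : M}

instance (q : M → Prop) (h) [DecidablePred q] (a : M) : Decidable (a ∈ sg q h) := inferInstanceAs (Decidable (q a))

theorem card_sg [Fintype M] (q : M → Prop) (h) [DecidablePred q] : Nat.card (sg q h) = (Finset.univ.filter q).card :=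
  card_eq_filter q

theorem Su.comp [Finite M] (su : Su φ z) {α : M →* M} (hα : Function.Injective α) (hz : α z = z) : Su (φ.comp α) z where
  inj := su.inj.comp hα
  cen g hg := by
    obtain ⟨h, rfl⟩ := su.cen g (by simpa only [MonoidHom.comp_apply, hz] using hg)
    obtain ⟨k, rfl⟩ := Finite.surjective_of_injective hα h
    exact ⟨k, rfl⟩
  zc := su.zc
  zz := su.zz
  z1 := su.z1

theorem Cj.comp_iff {α : M →* M} {y : G} {q : M} : Cj (φ.comp α) y p q ↔ Cj φ y (α p) (α q) := Iff.rfl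

theorem Su.norm' (su : Su φ z) {g : G} (h1 : Cj φ g s s) (h2 : Cj φ g z (s * z)) (hp : p * s = s * p) (ss : s * s = 1) :
    ∃ q, q * s = s * q ∧ Cj φ g p q := by
  have a1 := h1.mul h2
  obtain ⟨q, hq⟩ := su.cen (g * φ p * g⁻¹) (by
    rw [← mul_assoc s s, ss, one_mul] at a1
    rw [← a1, conj_mul, conj_mul, ← map_mul, ← map_mul, ← mul_assoc p, hp, mul_assoc s, su.zc p, mul_assoc s])
  have h3 : Cj φ g p q := hq.symm
  exact ⟨q, (h3.mul h1).uniq su.inj ((h1.mul h3).cast hp.symm rfl), h3⟩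

theorem hM_of {Q : M → Prop} (h1 : ∀ a b : M, a * b * a⁻¹ * b⁻¹ * (a * b * a⁻¹ * b⁻¹) = 1 → Q (a * b * a⁻¹ * b⁻¹))
    (h2 : ∀ c, Q c → c = 1 ∨ c = z ∨ ∃ k, k * c * k⁻¹ = c * z) (a b : M) (h : a * b * a⁻¹ * b⁻¹ * (a * b * a⁻¹ * b⁻¹) = 1) :
    a * b * a⁻¹ * b⁻¹ = 1 ∨ a * b * a⁻¹ * b⁻¹ = z ∨ ∃ k, k * (a * b * a⁻¹ * b⁻¹) * k⁻¹ = a * b * a⁻¹ * b⁻¹ * z :=
  h2 _ (h1 a b h)

theorem eval_lt {gn : ℕ → M} (f : M →* G) {a b c d x t : M} {a' b' c' d' x' t' : G} (h : ∀ n < 16, gn n = lt a b c d x t n)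
    (e : f a = a' ∧ f b = b' ∧ f c = c' ∧ f d = d' ∧ f x = x' ∧ f t = t') (n m : ℕ) :
    f (evc gn n m) = evc (lt a' b' c' d' x' t') n m := by
  obtain ⟨rfl, rfl, rfl, rfl, rfl, rfl⟩ := e
  refine map_evc f (fun k hk => ?_) n m
  rw [h k hk]
  interval_cases k <;> simp [lt]

theorem Y3.inv {j : M} {y : G} (h : Y3 φ z s j y) (jj : j * j = 1) : φ j * y * (φ j)⁻¹ = y⁻¹ := by
  rw [eq_inv_iff_mul_eq_one, ← map_inv, inv_eq_of_mul_eq_one_right jj, mul_eq_one_comm, ← h.jy]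
  simp only [mul_assoc]

theorem Y3.mem [Finite G] {j : M} {y : G} (su : Su φ z) (h : Y3 φ z s j y) {K : Subgroup G} (hy : y ∈ K) (hz : φ z ∈ K)
    (ss : s * s = 1) : y ∈ resOf 2 K ∧ φ z ∈ resOf 2 K ∧ φ s ∈ resOf 2 K := by
  have h1 : y ∈ resOf 2 K := mem_resOf hy (Nat.Coprime.coprime_dvd_left
    (orderOf_dvd_of_pow_eq_one (n := 3) (by rw [pow_three', h.y3])) (by norm_num))
  have h2 : φ (s * z) ∈ resOf 2 K := by
    have := mul_mem h1 (conj_mem_of_mem_normalizer (le_normalizer_resOf K hz) (inv_mem h1))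
    rwa [← map_inv, inv_eq_of_mul_eq_one_right su.zz, ← mul_assoc, ← mul_assoc, h.yz, ← map_mul] at this
  have h3 : φ z ∈ resOf 2 K := by
    have := mul_mem (mul_mem h1 h2) (inv_mem h1)
    rwa [h.ys.mul h.yz, mul_assoc, ← su.zc, ← mul_assoc, ss, one_mul] at this
  exact ⟨h1, h3, h.yz ▸ mul_mem (mul_mem h1 h3) (inv_mem h1)⟩

theorem Ac.tab {S : M → Prop} {y : G} {cd : M → ℕ} {a b c a' b' c' : M} (h1 : Cj φ y a a') (h2 : Cj φ y b b')
    (h3 : Cj φ y c c') {f : M → M} (e : ∀ h, S h → X32.rho cd a b c h = h ∧ X32.rho cd a' b' c' h = f h ∧ S (f h)) : Ac φ S y f :=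
  fun p hp => ⟨(e p hp).2.2, (Cj.rho h1 h2 h3 (e p hp).1).cast rfl (e p hp).2.1⟩

end generic

namespace HA

theorem eval (f : HA →* G) {a b c d x t : G} (e : f (el 1) = a ∧ f (el 2) = b ∧ f (el 4) = c ∧ f (el 8) = d ∧
    f (el 64) = x ∧ f (el 32) = t) (h : HA) : f h = evc (lt a b c d x t) 8 (wd h) :=
  (congrArg f (evc_wd h).symm).trans (eval_lt f (by decide +kernel) e _ _)

theorem hM : ∀ a b : HA, a * b * a⁻¹ * b⁻¹ * (a * b * a⁻¹ * b⁻¹) = 1 → a * b * a⁻¹ * b⁻¹ = 1 ∨ a * b * a⁻¹ * b⁻¹ = el 16 ∨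
    ∃ k, k * (a * b * a⁻¹ * b⁻¹) * k⁻¹ = a * b * a⁻¹ * b⁻¹ * el 16 :=
  hM_of (Q := fun h => h.1 < 32) (by decide +kernel) (by decide +kernel)

/-- Bit mask predicate. -/
def bm (m : ℕ) (h : HA) : Prop := Nat.testBit m h.1 = true

instance (m : ℕ) : DecidablePred (bm m) := fun _ => inferInstanceAs (Decidable (_ = true))

/-- Function given by a table. -/
def tf (m : ℕ) (h : HA) : HA := el (Nat.mod (Nat.shiftRight m (Nat.mul 8 h.1)) 256)

/-- The Sylow `2`-subgroup. -/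
abbrev T : Subgroup HA := sg (fun h => h.1 < 64) (by decide +kernel)

theorem cls : ∀ h : HA, h * h = 1 → h = 1 ∨ h = el 16 ∨ ∃ k, k * el 5 * k⁻¹ = h ∨ k * el 11 * k⁻¹ = h ∨
    k * el 30 * k⁻¹ = h ∨ k * el 32 * k⁻¹ = h ∨ k * el 48 * k⁻¹ = h := by decide +kernel

theorem sylT [Finite G] {φ : HA →* G} (su : Su φ (el 16)) : SylowIn 2 (T.map φ) ⊤ :=
  su.syl (by decide +kernel) le_top (by decide +kernel) (fun c h1 h2 h3 => ((by decide +kernel : ∀ c ∈ T,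
    (∀ a ∈ T, a * c = c * a) → c = 1 ∨ c = el 16) c h1 h2).resolve_left (su.fz_sq h3).2)
    fun a _ => (by decide +kernel : ∀ a, (∀ p ∈ T, a * p * a⁻¹ ∈ T) → a ∈ T) a

end HA

namespace HB

theorem eval (f : HB →* G) {a b c d x t : G} (e : f (el 1) = a ∧ f (el 2) = b ∧ f (el 4) = c ∧ f (el 8) = d ∧
    f (el 64) = x ∧ f (el 32) = t) (h : HB) : f h = evc (lt a b c d x t) 8 (wd h) :=
  (congrArg f (evc_wd h).symm).trans (eval_lt f (by decide +kernel) e _ _)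

theorem hM : ∀ a b : HB, a * b * a⁻¹ * b⁻¹ * (a * b * a⁻¹ * b⁻¹) = 1 → a * b * a⁻¹ * b⁻¹ = 1 ∨ a * b * a⁻¹ * b⁻¹ = el 16 ∨
    ∃ k, k * (a * b * a⁻¹ * b⁻¹) * k⁻¹ = a * b * a⁻¹ * b⁻¹ * el 16 :=
  hM_of (Q := fun h => h.1 < 32) (by decide +kernel) (by decide +kernel)

/-- Bit mask predicate. -/
def bm (m : ℕ) (h : HB) : Prop := Nat.testBit m h.1 = true

instance (m : ℕ) : DecidablePred (bm m) := fun _ => inferInstanceAs (Decidable (_ = true))

/-- Function given by a table. -/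
def tf (m : ℕ) (h : HB) : HB := el (Nat.mod (Nat.shiftRight m (Nat.mul 8 h.1)) 256)

/-- The Sylow `2`-subgroup. -/
abbrev T : Subgroup HB := sg (fun h => h.1 < 64) (by decide +kernel)

theorem cls : ∀ h : HB, h * h = 1 → h = 1 ∨ h = el 16 ∨ ∃ k, k * el 5 * k⁻¹ = h ∨ k * el 11 * k⁻¹ = h ∨
    k * el 32 * k⁻¹ = h := by decide +kernel

theorem sylT [Finite G] {φ : HB →* G} (su : Su φ (el 16)) : SylowIn 2 (T.map φ) ⊤ :=
  su.syl (by decide +kernel) le_top (by decide +kernel) (fun c h1 h2 h3 => ((by decide +kernel : ∀ c ∈ T,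
    (∀ a ∈ T, a * c = c * a) → c = 1 ∨ c = el 16) c h1 h2).resolve_left (su.fz_sq h3).2)
    fun a _ => (by decide +kernel : ∀ a, (∀ p ∈ T, a * p * a⁻¹ ∈ T) → a ∈ T) a

end HB

end Cfsg.Lib.X32
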